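import Mathlib

/-! A verified checker for coset enumerations with involutory generators. -/

set_option autoImplicit false

namespace CfsgLib.TC

/-- entry `m` of the packed table -/
def get (T m : ℕ) : ℕ := (T >>> (16 * m)) % 65536

/-- overwrite entry `m` of the packed table -/
def set (T m v : ℕ) : ℕ := T ^^^ ((get T m ^^^ v) <<< (16 * m))

theorem get_lt (T m : ℕ) : get T m < 65536 := Nat.mod_lt _ (by norm_num)

theorem testBit_get (T m k : ℕ) :
    (get T m).testBit k = (decide (k < 16) && T.testBit (16 * m + k)) := by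
  rw [get, show 65536 = 2 ^ 16 by norm_num, Nat.testBit_mod_two_pow, Nat.testBit_shiftRight]

theorem get_set_self (T m : ℕ) {v : ℕ} (hv : v < 65536) : get (set T m v) m = v := by
  refine Nat.eq_of_testBit_eq fun k => ?_
  rw [testBit_get, set, Nat.testBit_xor, Nat.testBit_shiftLeft, Nat.testBit_xor, testBit_get,
    Nat.add_sub_cancel_left]
  by_cases hk : k < 16
  · simp [hk]
  · have : v < 2 ^ k := lt_of_lt_of_le hv (by
      rw [show 65536 = 2 ^ 16 by norm_num]; exact Nat.pow_le_pow_right two_pos (by omega))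
    simp [hk, Nat.testBit_lt_two_pow this]

theorem get_set_ne (T : ℕ) {m m' v : ℕ} (hv : v < 65536) (h : m' ≠ m) :
    get (set T m v) m' = get T m' := by
  refine Nat.eq_of_testBit_eq fun k => ?_
  rw [testBit_get, testBit_get, set, Nat.testBit_xor, Nat.testBit_shiftLeft]
  by_cases hk : k < 16
  · by_cases h1 : 16 * m' + k ≥ 16 * m
    · have h2 : get T m ^^^ v < 2 ^ (16 * m' + k - 16 * m) :=
        lt_of_lt_of_le (Nat.xor_lt_two_pow (n := 16) (get_lt T m) hv)
          (Nat.pow_le_pow_right two_pos (by omega))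
      simp [Nat.testBit_lt_two_pow h2]
    · simp [h1]
  · simp [hk]

/-- evaluate `m` before continuing; `0` means failure -/
def force (m : ℕ) (k : ℕ → ℕ) : ℕ :=
  match m with
  | 0 => 0
  | m' + 1 => k (m' + 1)

theorem force_ne {m : ℕ} {k : ℕ → ℕ} (h : force m k ≠ 0) : m ≠ 0 ∧ force m k = k m := by
  cases m with
  | zero => exact absurd rfl h
  | succ m => exact ⟨Nat.succ_ne_zero m, rfl⟩

/-- follow a word through the table -/
def trace (T : ℕ) : List ℕ → ℕ → ℕ
  | [], i => i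
  | j :: w, i => force (get T (8 * i + j)) (trace T w)

/-- record an edge in both directions -/
def edge (T i x k : ℕ) : ℕ := force (set T (8 * i + x) k) fun T' => set T' (8 * k + x) i

def okL (w : List ℕ) : Bool := w.all fun j => decide (0 < j) && decide (j < 8)

def rot (w : List ℕ) (s : ℕ) : List ℕ := w.drop s ++ w.take s

def digs : ℕ → ℕ → List ℕ
  | 0, _ => []
  | f + 1, c => if c % 8 = 0 then [] else c % 8 :: digs f (c / 8)

def stepDef (T i j : ℕ) : ℕ :=
  force (get T 0) fun n => if j ≠ 0 ∧ i ≠ 0 ∧ i ≤ n ∧ n + 1 < 65536 then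
    force (set T 0 (n + 1)) fun T' => edge T' i j (n + 1) else 0

def stepDed (T i : ℕ) : List ℕ → ℕ
  | [] => 0
  | x :: u => if i ≠ 0 ∧ i ≤ get T 0 then force (trace T u i) fun k => edge T i x k else 0

def stepGen (T i x : ℕ) (u₁ u₂ w : List ℕ) : ℕ :=
  if i ≠ 0 ∧ i ≤ get T 0 ∧ x ≠ 0 ∧ (x :: (u₁.reverse ++ u₂)).filter (· ≠ 7) = w then
    force (trace T u₁ i) fun k₁ => force (trace T u₂ i) fun k₂ => edge T k₁ x k₂ else 0

def step (R : List (List ℕ)) (c T : ℕ) : ℕ :=
  if c % 4 = 0 then stepDef T (c / 32) (c / 4 % 8)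
  else if c % 4 = 1 then stepDed T (c / 16384) (rot (R.getD (c / 256 % 64) []) (c / 4 % 64))
  else stepGen T (c / 16384 % 65536) (c / 1073741824 % 8) (digs 64 (c / 8589934592 % 2 ^ 192))
    (digs 64 (c / 8589934592 / 2 ^ 192)) (rot (R.getD (c / 256 % 64) []) (c / 4 % 64))

def runL (R : List (List ℕ)) : List ℕ → ℕ → ℕ
  | [], T => T
  | c :: cs, T => force (step R c T) (runL R cs)

def runLL (R : List (List ℕ)) : List (List ℕ) → ℕ → ℕ
  | [], T => T
  | c :: cs, T => force (runL R c T) (runLL R cs)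

def init : List ℕ → ℕ
  | [] => 1
  | j :: S => set (init S) (8 + j) 1

def closed (T M : ℕ) (Gs : List ℕ) (N : ℕ) : Bool :=
  let L := (List.range (get T 0 + 1)).filter M.testBit
  decide (L.length ≤ N) && M.testBit 1 && !M.testBit 0 &&
    L.all fun i => Gs.all fun j => M.testBit (get T (8 * i + j))

def check (R : List (List ℕ)) (S Gs : List ℕ) (cert : List (List ℕ)) (M N : ℕ) : Bool :=
  R.all okL && okL S && okL Gs &&
    decide (force (runLL R cert (init S)) (fun T => if closed T M Gs N then 1 else 0) ≠ 0)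

section Sound
variable {X : Type*} (σ : ℕ → X → X) (x₀ : X)

def act : List ℕ → X → X
  | [], x => x
  | j :: w, x => act w (σ j x)

theorem act_append (u v : List ℕ) (x : X) : act σ (u ++ v) x = act σ v (act σ u x) := by
  induction u generalizing x with
  | nil => rfl
  | cons j u ih => exact ih _

def Good (p : ℕ → X) (T : ℕ) : Prop :=
  ∀ i j, 0 < j → j < 8 → get T (8 * i + j) ≠ 0 →
    i ≤ get T 0 ∧ get T (8 * i + j) ≤ get T 0 ∧ σ j (p i) = p (get T (8 * i + j))

def Inv (T : ℕ) : Prop := ∃ p : ℕ → X, p 1 = x₀ ∧ 1 ≤ get T 0 ∧ Good σ p T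

variable {σ x₀}

theorem okL_cons {j : ℕ} {w : List ℕ} : okL (j :: w) = true ↔ (0 < j ∧ j < 8) ∧ okL w = true := by
  simp [okL]

theorem okL_iff {w : List ℕ} : okL w = true ↔ ∀ j ∈ w, 0 < j ∧ j < 8 := by simp [okL]

theorem okL_digs (f c : ℕ) : okL (digs f c) = true := by
  induction f generalizing c with
  | zero => rfl
  | succ f ih =>
    rw [digs]
    split_ifs with h
    · rfl
    · exact okL_cons.2 ⟨⟨by omega, by omega⟩, ih _⟩

theorem Good.trace {p : ℕ → X} {T : ℕ} (h : Good σ p T) {w : List ℕ} (hw : okL w = true) {i : ℕ}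
    (hi : i ≤ get T 0) (h0 : trace T w i ≠ 0) :
    trace T w i ≤ get T 0 ∧ act σ w (p i) = p (trace T w i) := by
  induction w generalizing i with
  | nil => exact ⟨hi, rfl⟩
  | cons j w ih =>
    obtain ⟨⟨h1, h2⟩, h3⟩ := okL_cons.1 hw
    rw [TC.trace] at h0 ⊢
    obtain ⟨h4, h5⟩ := force_ne h0
    obtain ⟨-, h6, h7⟩ := h i j h1 h2 h4
    rw [h5] at h0 ⊢
    rw [act, h7]
    exact ih h3 h6 h0

theorem Good.set {p : ℕ → X} {T : ℕ} (h : Good σ p T) {i x k : ℕ} (h1 : 0 < x) (h2 : x < 8)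
    (hi : i ≤ get T 0) (hk : k ≤ get T 0) (e : σ x (p i) = p k) :
    get (set T (8 * i + x) k) 0 = get T 0 ∧ Good σ p (set T (8 * i + x) k) := by
  have hk' : k < 65536 := lt_of_le_of_lt hk (get_lt _ _)
  have h0 : get (TC.set T (8 * i + x) k) 0 = get T 0 := get_set_ne T hk' (by omega)
  refine ⟨h0, fun i' j h3 h4 h5 => ?_⟩
  rw [h0]
  by_cases e1 : 8 * i' + j = 8 * i + x
  · obtain ⟨rfl, rfl⟩ : i' = i ∧ j = x := by omega
    rw [get_set_self T _ hk']
    exact ⟨hi, hk, e⟩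
  · rw [get_set_ne T hk' e1] at h5 ⊢
    exact h i' j h3 h4 h5

variable (hσ : ∀ j x, σ j (σ j x) = x)
include hσ

theorem act_reverse (u : List ℕ) (x : X) : act σ u.reverse (act σ u x) = x := by
  induction u generalizing x with
  | nil => rfl
  | cons j u ih =>
    rw [List.reverse_cons, act_append, show act σ (j :: u) x = act σ u (σ j x) from rfl, ih]
    exact hσ j x

theorem act_rot {w : List ℕ} (h : ∀ x, act σ w x = x) (s : ℕ) (x : X) : act σ (rot w s) x = x := by
  have h1 := h (act σ (w.take s).reverse x)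
  have h2 := act_reverse hσ (w.take s).reverse x
  rw [List.reverse_reverse] at h2
  rw [← List.take_append_drop s w, act_append, List.take_append_drop, h2] at h1
  rw [rot, act_append, h1, h2]

theorem Good.edge {p : ℕ → X} {T : ℕ} (h : Good σ p T) {i x k : ℕ} (h1 : 0 < x) (h2 : x < 8)
    (hi : i ≤ get T 0) (hk : k ≤ get T 0) (e : σ x (p i) = p k) (h0 : edge T i x k ≠ 0) :
    get (edge T i x k) 0 = get T 0 ∧ Good σ p (edge T i x k) := by
  rw [TC.edge, (force_ne h0).2]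
  obtain ⟨h3, h4⟩ := h.set h1 h2 hi hk e
  obtain ⟨h5, h6⟩ := h4.set h1 h2 (h3 ▸ hk) (h3 ▸ hi) (by rw [← e, hσ])
  exact ⟨h5.trans h3, h6⟩

theorem Inv.stepDef {T i j : ℕ} (h : Inv σ x₀ T) (hj : j < 8) (h0 : stepDef T i j ≠ 0) :
    Inv σ x₀ (stepDef T i j) := by
  obtain ⟨p, h1, h2, h3⟩ := h
  rw [TC.stepDef] at h0 ⊢
  have b1 := (force_ne h0).2
  rw [b1] at h0 ⊢
  split_ifs at h0 ⊢ with hc
  swap
  · exact absurd rfl h0
  obtain ⟨c1, c2, c3, c4⟩ := hc
  have b2 := (force_ne h0).2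
  rw [b2] at h0 ⊢
  set n := get T 0 with hn
  have e0 : get (set T 0 (n + 1)) 0 = n + 1 := get_set_self T 0 c4
  have hg : Good σ (Function.update p (n + 1) (σ j (p i))) (set T 0 (n + 1)) := by
    intro i' j' d1 d2 d3
    rw [get_set_ne T (m' := 8 * i' + j') c4 (by omega)] at d3 ⊢
    obtain ⟨d4, d5, d6⟩ := h3 i' j' d1 d2 d3
    rw [e0, Function.update_of_ne (by omega), Function.update_of_ne (by omega)]
    exact ⟨by omega, by omega, d6⟩
  obtain ⟨d1, d2⟩ := hg.edge hσ (i := i) (x := j) (k := n + 1) (by omega) hj (by omega) (by omega)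
    (by rw [Function.update_of_ne (by omega), Function.update_self]) h0
  exact ⟨_, by rw [Function.update_of_ne (by omega), h1], by omega, d2⟩

theorem Inv.stepDed {T i : ℕ} {w : List ℕ} (h : Inv σ x₀ T) (hw : okL w = true)
    (hr : ∀ x, act σ w x = x) (h0 : stepDed T i w ≠ 0) : Inv σ x₀ (stepDed T i w) := by
  obtain ⟨p, h1, h2, h3⟩ := h
  cases w with
  | nil => exact absurd rfl h0
  | cons x u =>
    obtain ⟨⟨c1, c2⟩, c3⟩ := okL_cons.1 hw
    rw [TC.stepDed] at h0 ⊢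
    split_ifs at h0 ⊢ with hc
    swap
    · exact absurd rfl h0
    obtain ⟨d1, d2⟩ := force_ne h0
    rw [d2] at h0 ⊢
    obtain ⟨d3, d4⟩ := h3.trace c3 hc.2 d1
    have e := hr (σ x (p i))
    rw [act, hσ, d4] at e
    obtain ⟨d5, d6⟩ := h3.edge hσ c1 c2 hc.2 d3 e.symm h0
    exact ⟨p, h1, by omega, d6⟩

omit hσ in
theorem act_filter (h7 : ∀ x, σ 7 x = x) (w : List ℕ) (x : X) :
    act σ (w.filter (· ≠ 7)) x = act σ w x := by
  induction w generalizing x with
  | nil => rfl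
  | cons j w ih =>
    by_cases hj : j = 7
    · rw [List.filter_cons_of_neg (by simp [hj]), ih, act, hj, h7]
    · rw [List.filter_cons_of_pos (by simp [hj]), act, act, ih]

theorem Inv.stepGen (h7 : ∀ x, σ 7 x = x) {T i x : ℕ} {u₁ u₂ w : List ℕ} (h : Inv σ x₀ T)
    (hx : x < 8) (hu₁ : okL u₁ = true) (hu₂ : okL u₂ = true) (hr : ∀ x, act σ w x = x)
    (h0 : stepGen T i x u₁ u₂ w ≠ 0) : Inv σ x₀ (stepGen T i x u₁ u₂ w) := by
  obtain ⟨p, h1, h2, h3⟩ := h
  rw [TC.stepGen] at h0 ⊢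
  split_ifs at h0 ⊢ with hc
  swap
  · exact absurd rfl h0
  obtain ⟨-, c2, c3, c4⟩ := hc
  obtain ⟨d1, d2⟩ := force_ne h0
  rw [d2] at h0 ⊢
  obtain ⟨d3, d4⟩ := force_ne h0
  rw [d4] at h0 ⊢
  obtain ⟨e1, e2⟩ := h3.trace hu₁ c2 d1
  obtain ⟨e3, e4⟩ := h3.trace hu₂ c2 d3
  have e := hr (σ x (p (trace T u₁ i)))
  rw [← c4, act_filter h7, act, hσ, act_append, ← e2, act_reverse hσ, e4, e2] at e
  obtain ⟨d5, d6⟩ := h3.edge hσ (by omega) hx e1 e3 e.symm h0
  exact ⟨p, h1, by omega, d6⟩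

variable (h7 : ∀ x, σ 7 x = x) {R : List (List ℕ)} (hR : ∀ w ∈ R, ∀ x, act σ w x = x)
  (hok : R.all okL = true)
include h7 hR hok

theorem Inv.step {T c : ℕ} (h : Inv σ x₀ T) (h0 : step R c T ≠ 0) : Inv σ x₀ (step R c T) := by
  have key : ∀ r s, okL (rot (R.getD r []) s) = true ∧ ∀ x, act σ (rot (R.getD r []) s) x = x := by
    intro r s
    have h1 : okL (R.getD r []) = true ∧ ∀ x, act σ (R.getD r []) x = x := by
      by_cases hr : r < R.length
      · rw [List.getD_eq_getElem _ _ hr]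
        exact ⟨List.all_eq_true.1 hok _ (List.getElem_mem hr), hR _ (List.getElem_mem hr)⟩
      · rw [List.getD_eq_default _ _ (by omega)]
        exact ⟨rfl, fun _ => rfl⟩
    refine ⟨okL_iff.2 fun j hj => okL_iff.1 h1.1 j ?_, act_rot hσ h1.2 s⟩
    rcases List.mem_append.1 hj with h2 | h2
    · exact List.mem_of_mem_drop h2
    · exact List.mem_of_mem_take h2
  rw [TC.step] at h0 ⊢
  split_ifs at h0 ⊢
  · exact h.stepDef hσ (Nat.mod_lt _ (by norm_num)) h0
  · exact h.stepDed hσ (key _ _).1 (key _ _).2 h0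
  · exact h.stepGen hσ h7 (Nat.mod_lt _ (by norm_num)) (okL_digs _ _) (okL_digs _ _) (key _ _).2 h0

theorem Inv.runL {cs : List ℕ} {T : ℕ} (h : Inv σ x₀ T) (h0 : runL R cs T ≠ 0) :
    Inv σ x₀ (runL R cs T) := by
  induction cs generalizing T with
  | nil => exact h
  | cons c cs ih =>
    rw [TC.runL] at h0 ⊢
    obtain ⟨d1, d2⟩ := force_ne h0
    rw [d2] at h0 ⊢
    exact ih (h.step hσ h7 hR hok d1) h0

theorem Inv.runLL {cs : List (List ℕ)} {T : ℕ} (h : Inv σ x₀ T) (h0 : runLL R cs T ≠ 0) :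
    Inv σ x₀ (runLL R cs T) := by
  induction cs generalizing T with
  | nil => exact h
  | cons c cs ih =>
    rw [TC.runLL] at h0 ⊢
    obtain ⟨d1, d2⟩ := force_ne h0
    rw [d2] at h0 ⊢
    exact ih (h.runL hσ h7 hR hok d1) h0

omit hσ h7 hR hok in
theorem good_init {S : List ℕ} (hS : okL S = true) (h : ∀ j ∈ S, σ j x₀ = x₀) :
    get (init S) 0 = 1 ∧ Good σ (fun _ => x₀) (init S) := by
  induction S with
  | nil =>
    refine ⟨rfl, fun i j h1 h2 h3 => absurd ?_ h3⟩
    rw [init, get, Nat.shiftRight_eq_div_pow, Nat.div_eq_of_lt (Nat.one_lt_two_pow (by omega))]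
  | cons j S ih =>
    obtain ⟨⟨c1, c2⟩, c3⟩ := okL_cons.1 hS
    obtain ⟨d1, d2⟩ := ih c3 fun k hk => h k (List.mem_cons_of_mem _ hk)
    obtain ⟨d3, d4⟩ := d2.set (i := 1) (k := 1) c1 c2 d1.ge d1.ge (h j List.mem_cons_self)
    exact ⟨d3.trans d1, d4⟩

omit hok in
theorem sound {S Gs : List ℕ} (hS : ∀ j ∈ S, σ j x₀ = x₀) {cert : List (List ℕ)} {M N : ℕ}
    (hc : check R S Gs cert M N = true) :
    ∃ l : List X, l.length ≤ N ∧ x₀ ∈ l ∧ ∀ x ∈ l, ∀ j ∈ Gs, σ j x ∈ l := by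
  simp only [check, Bool.and_eq_true, decide_eq_true_eq] at hc
  obtain ⟨⟨⟨c1, c2⟩, c3⟩, c4⟩ := hc
  obtain ⟨d1, d2⟩ := force_ne c4
  rw [d2] at c4
  obtain ⟨e1, e2⟩ := good_init c2 hS
  obtain ⟨p, h1, h2, h3⟩ := Inv.runLL hσ h7 hR c1 (x₀ := x₀) ⟨_, rfl, e1.ge, e2⟩ d1
  generalize runLL R cert (init S) = T at c4 h2 h3
  have c5 : closed T M Gs N = true := by
    by_contra h
    simp [h] at c4
  simp only [closed, Bool.and_eq_true, decide_eq_true_eq, List.all_eq_true, Bool.not_eq_true',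
    List.mem_filter, List.mem_range] at c5
  obtain ⟨⟨⟨f1, f2⟩, f3⟩, f4⟩ := c5
  refine ⟨((List.range (get T 0 + 1)).filter M.testBit).map p, by simpa using f1,
    List.mem_map.2 ⟨1, by simp [f2]; omega, h1⟩, fun x hx j hj => ?_⟩
  obtain ⟨i, hi, rfl⟩ := List.mem_map.1 hx
  rw [List.mem_filter, List.mem_range] at hi
  have g1 := f4 i hi j hj
  obtain ⟨g2, g3⟩ := okL_iff.1 c3 j hj
  obtain ⟨-, g4, g5⟩ := h3 i j g2 g3 (fun e => by rw [e, f3] at g1; exact absurd g1 (by simp))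
  exact List.mem_map.2 ⟨_, by simp [g1]; omega, g5.symm⟩

end Sound

section Grp
variable {K : Type*} [Group K] (g : ℕ → K)

/-- the value of a word -/
def ev (w : List ℕ) : K := (w.map g).prod

theorem ev_nil : ev g [] = 1 := rfl
theorem ev_cons (j : ℕ) (w : List ℕ) : ev g (j :: w) = g j * ev g w := by simp [ev]
theorem ev_append (u v : List ℕ) : ev g (u ++ v) = ev g u * ev g v := by simp [ev]

variable {g}

theorem ev_reverse (hg : ∀ j, g j * g j = 1) (w : List ℕ) : ev g w.reverse = (ev g w)⁻¹ := by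
  induction w with
  | nil => simp [ev]
  | cons j w ih =>
    rw [List.reverse_cons, ev_append, ih, ev_cons, ev_cons, ev_nil, mul_one, mul_inv_rev,
      inv_eq_of_mul_eq_one_right (hg j)]

theorem map_ev {K' : Type*} [Group K'] (f : K →* K') (w : List ℕ) :
    f (ev g w) = ev (f ∘ g) w := by
  rw [ev, ev, map_list_prod, List.map_map]

theorem ev_congr {g' : ℕ → K} {w : List ℕ} (h : ∀ j ∈ w, g j = g' j) : ev g w = ev g' w := by
  rw [ev, ev, List.map_congr_left h]

theorem ev_mem {H : Subgroup K} {w : List ℕ} (h : ∀ j ∈ w, g j ∈ H) : ev g w ∈ H :=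
  H.list_prod_mem fun x hx => by
    obtain ⟨j, hj, rfl⟩ := List.mem_map.1 hx
    exact h j hj

theorem act_smul (hg : ∀ j, g j * g j = 1) {X : Type*} [MulAction K X] (w : List ℕ) (x : X) :
    act (fun j y => g j • y) w x = (ev g w)⁻¹ • x := by
  induction w generalizing x with
  | nil => simp [act, ev]
  | cons j w ih =>
    rw [act, ih, ev_cons, mul_inv_rev, inv_eq_of_mul_eq_one_right (hg j), mul_smul]

variable (hg : ∀ j, g j * g j = 1) (h7 : g 7 = 1) {R : List (List ℕ)} (hR : ∀ w ∈ R, ev g w = 1)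
  {H : Subgroup K} {S Gs : List ℕ} (hS : ∀ j ∈ S, g j ∈ H) {cert : List (List ℕ)} {M N : ℕ}
  (hc : check R S Gs cert M N = true)
include hg h7 hR hS hc

theorem exists_cosets : ∃ l : List (K ⧸ H), l.length ≤ N ∧
    ∀ x ∈ Subgroup.closure (g '' {j | j ∈ Gs}), x • ((1 : K) : K ⧸ H) ∈ l := by
  obtain ⟨l, h1, h2, h3⟩ := sound (σ := fun j (y : K ⧸ H) => g j • y) (x₀ := ((1 : K) : K ⧸ H))
    (fun j x => by rw [← mul_smul, hg, one_smul]) (fun x => by rw [h7, one_smul])
    (fun w hw x => by rw [act_smul hg, hR w hw, inv_one, one_smul])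
    (fun j hj => QuotientGroup.eq.2 (by simpa using hS j hj)) hc
  have key : ∀ x ∈ Subgroup.closure (g '' {j | j ∈ Gs}), ∀ y ∈ l, x • y ∈ l ∧ x⁻¹ • y ∈ l := by
    intro x hx
    induction hx using Subgroup.closure_induction with
    | mem x hx =>
      obtain ⟨j, hj, rfl⟩ := hx
      rw [inv_eq_of_mul_eq_one_right (hg j)]
      exact fun y hy => ⟨h3 y hy j hj, h3 y hy j hj⟩
    | one => simp
    | mul x x' _ _ ih ih' =>
      intro y hy
      rw [mul_inv_rev, mul_smul, mul_smul]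
      exact ⟨(ih _ (ih' y hy).1).1, (ih' _ (ih y hy).2).2⟩
    | inv x _ ih =>
      rw [inv_inv]
      exact fun y hy => (ih y hy).symm
  exact ⟨l, h1, fun x hx => (key x hx _ h2).1⟩

theorem card_le [Finite K] :
    Nat.card (Subgroup.closure (g '' {j | j ∈ Gs})) ≤ N * Nat.card H := by
  obtain ⟨l, h1, h2⟩ := exists_cosets hg h7 hR hS hc
  set C := Subgroup.closure (g '' {j | j ∈ Gs})
  have h3 : (MulAction.orbit C ((1 : K) : K ⧸ H)).ncard ≤ N := by
    classical
    refine le_trans (Set.ncard_le_ncard (t := l.toFinset) ?_) ?_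
    · rintro _ ⟨x, rfl⟩
      exact List.mem_toFinset.2 (h2 x x.2)
    · rw [Set.ncard_coe_finset]
      exact l.toFinset_card_le.trans h1
  have h4 : Nat.card (MulAction.stabilizer C ((1 : K) : K ⧸ H)) ≤ Nat.card H := by
    refine Nat.card_le_card_of_injective (fun x => ⟨x.1.1, ?_⟩) fun x y e =>
      Subtype.ext (Subtype.ext (congrArg (fun z : H => (z : K)) e))
    have : ((x.1.1 * 1 : K) : K ⧸ H) = (1 : K) := x.2
    simpa using QuotientGroup.eq.1 this
  rw [← (MulAction.stabilizer C ((1 : K) : K ⧸ H)).card_mul_index, MulAction.index_stabilizer,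
    mul_comm]
  exact Nat.mul_le_mul h3 h4

theorem mem_of_check (hN : N = 1) {j : ℕ} (hj : j ∈ Gs) : g j ∈ H := by
  obtain ⟨l, h1, h2⟩ := exists_cosets hg h7 hR hS hc
  have h3 := h2 1 (one_mem _)
  have h4 := h2 (g j) (Subgroup.subset_closure ⟨j, hj, rfl⟩)
  have h5 : g j • ((1 : K) : K ⧸ H) = (1 : K) • ((1 : K) : K ⧸ H) := by
    match l, h1, h3, h4 with
    | [y], _, h3, h4 => exact (List.mem_singleton.1 h4).trans (List.mem_singleton.1 h3).symm
    | _ :: _ :: _, h1, _, _ => simp [hN] at h1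
  rw [one_smul] at h5
  have : ((g j * 1 : K) : K ⧸ H) = (1 : K) := h5
  simpa using QuotientGroup.eq.1 this

end Grp

end CfsgLib.TC
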