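import Mathlib
import Cfsg.Agent.Lib.CG.Cover
import Cfsg.Agent.Lib.J1.TC

/-! Computations in the alternating group of degree five. -/

set_option autoImplicit false

namespace CfsgLib.J1

open Equiv Equiv.Perm Subgroup
open scoped MatrixGroups

abbrev A5 : Type := alternatingGroup (Fin 5)

def pA : A5 := ⟨swap 0 1 * swap 3 4, mem_alternatingGroup.2 (by decide)⟩
def qA : A5 := ⟨swap 1 2 * swap 3 4, mem_alternatingGroup.2 (by decide)⟩
def rA : A5 := ⟨swap 0 3 * swap 1 4, mem_alternatingGroup.2 (by decide)⟩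

theorem A5_orders : ∀ y : A5, y * y = 1 ∨ y ^ 3 = 1 ∨ y ^ 5 = 1 := by decide +kernel

theorem cent_pq : ∀ y : A5, y * (pA * qA) = pA * qA * y →
    y = 1 ∨ y = pA * qA ∨ y = (pA * qA) ^ 2 := by decide +kernel

theorem cent_p : ∀ y : A5, y * pA = pA * y → y * y = 1 := by decide +kernel

theorem inv_by_p : ∀ y : A5, y ^ 3 = 1 → y ≠ 1 → pA * y * pA * y = 1 →
    y = pA * qA ∨ y = pA * (pA * qA) * pA ∨ y = rA * (pA * qA) * rA ∨
      y = pA * rA * (pA * qA) * (rA * pA) := by decide +kernel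

set_option synthInstance.maxSize 1000 in
theorem norm_aux1 : ∀ u : Perm (Fin 5), sign u = 1 → u * u = 1 → u ≠ 1 → ∀ c : Perm (Fin 5),
    sign c = 1 → c * c = 1 → c ≠ 1 → u ≠ c → u * c = c * u →
    ∃ σ : Perm (Fin 5), σ * pA = c * σ ∧ σ * rA = u * σ := by decide +kernel

theorem norm_aux2 : ∀ w : Perm (Fin 5), w ^ 5 = 1 → w ≠ 1 → rA * w * rA * w = 1 →
    ∃ σ : Perm (Fin 5), σ * pA = pA * σ ∧ σ * rA = rA * σ ∧
      ∃ i : Fin 5, σ * qA = rA * w ^ (i : ℕ) * σ := by decide +kernel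

theorem exists_aut_of_conj (σ : Perm (Fin 5)) :
    ∃ τ : MulAut A5, ∀ y z : A5, σ * y = z * σ → τ y = z :=
  ⟨MulAut.conjNormal σ, fun y z h => Subtype.ext (by
    rw [MulAut.conjNormal_apply, h, mul_inv_cancel_right])⟩

theorem exists_normalize {u c w : A5} (h1 : u * u = 1) (h2 : u ≠ 1) (h3 : c * c = 1) (h4 : c ≠ 1)
    (h5 : u ≠ c) (h6 : u * c = c * u) (h7 : w ^ 5 = 1) (h8 : w ≠ 1) (h9 : u * w * u * w = 1) :
    ∃ τ : MulAut A5, τ pA = c ∧ τ rA = u ∧ ∃ i : ℕ, τ qA = u * w ^ i := by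
  obtain ⟨σ, e1, e2⟩ := norm_aux1 u u.2 (congrArg Subtype.val h1) (fun e => h2 (Subtype.ext e))
    c c.2 (congrArg Subtype.val h3) (fun e => h4 (Subtype.ext e)) (fun e => h5 (Subtype.ext e))
    (congrArg Subtype.val h6)
  obtain ⟨τ, hτ⟩ := exists_aut_of_conj σ
  have f1 := hτ _ _ e1
  have f2 := hτ _ _ e2
  obtain ⟨w', rfl⟩ := τ.surjective w
  obtain ⟨σ', g1, g2, i, g3⟩ := norm_aux2 w' (congrArg Subtype.val (τ.injective
    (by rw [map_pow, h7, map_one]) : w' ^ 5 = 1)) (fun e => h8 (by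
      rw [show w' = 1 from Subtype.ext e, map_one]))
    (congrArg Subtype.val (τ.injective (by
      rw [map_mul, map_mul, map_mul, f2, h9, map_one]) : rA * w' * rA * w' = 1))
  obtain ⟨τ', hτ'⟩ := exists_aut_of_conj σ'
  refine ⟨τ * τ', ?_, ?_, i, ?_⟩
  · rw [MulAut.mul_apply, hτ' _ _ g1, f1]
  · rw [MulAut.mul_apply, hτ' _ _ g2, f2]
  · rw [MulAut.mul_apply, hτ' qA (rA * w' ^ (i : ℕ)) g3, map_mul, map_pow, f2]

theorem exists_swap_aut : ∃ τ : MulAut A5, τ pA = pA ∧ τ qA = qA ∧ τ rA = pA * rA := by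
  obtain ⟨τ, hτ⟩ := exists_aut_of_conj (swap 3 4)
  exact ⟨τ, hτ _ _ (by decide), hτ _ _ (by decide), hτ _ _ (by decide)⟩

theorem mem_of_pqr {H : Subgroup A5} (h1 : pA ∈ H) (h2 : qA ∈ H) (h3 : rA ∈ H) (y : A5) :
    y ∈ H := by
  obtain ⟨w, hw, rfl⟩ := (by decide +kernel : ∀ y : A5, ∃ w ∈ ([[], [0], [1], [2],
      [0, 1], [0, 2], [1, 0], [1, 2],
      [2, 1], [0, 1, 0], [0, 1, 2], [0, 2, 1],
      [1, 0, 2], [1, 2, 1], [2, 1, 0], [2, 1, 2],
      [0, 1, 0, 2], [0, 1, 2, 1], [0, 2, 1, 0], [0, 2, 1, 2],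
      [1, 0, 2, 1], [1, 2, 1, 0], [1, 2, 1, 2], [2, 1, 0, 2],
      [2, 1, 2, 1], [0, 1, 0, 2, 1], [0, 1, 2, 1, 0], [0, 1, 2, 1, 2],
      [0, 2, 1, 0, 2], [0, 2, 1, 2, 1], [1, 0, 2, 1, 0], [1, 0, 2, 1, 2],
      [1, 2, 1, 0, 2], [1, 2, 1, 2, 1], [2, 1, 0, 2, 1], [2, 1, 2, 1, 0],
      [0, 1, 0, 2, 1, 0], [0, 1, 0, 2, 1, 2], [0, 1, 2, 1, 0, 2], [0, 1, 2, 1, 2, 1],
      [0, 2, 1, 0, 2, 1], [0, 2, 1, 2, 1, 0], [1, 0, 2, 1, 0, 2], [1, 0, 2, 1, 2, 1],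
      [1, 2, 1, 0, 2, 1], [1, 2, 1, 2, 1, 0], [2, 1, 0, 2, 1, 0], [2, 1, 0, 2, 1, 2],
      [0, 1, 0, 2, 1, 0, 2], [0, 1, 0, 2, 1, 2, 1], [0, 1, 2, 1, 0, 2, 1], [0, 1, 2, 1, 2, 1, 0],
      [0, 2, 1, 0, 2, 1, 0], [0, 2, 1, 0, 2, 1, 2], [1, 0, 2, 1, 0, 2, 1], [1, 0, 2, 1, 2, 1, 0],
      [1, 2, 1, 0, 2, 1, 0], [1, 2, 1, 0, 2, 1, 2], [2, 1, 0, 2, 1, 0, 2], [2, 1, 0, 2, 1, 2, 1]] : List (List ℕ)),
    TC.ev (fun j => [pA, qA, rA].getD j 1) w = y) y
  refine TC.ev_mem fun j _ => ?_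
  match j with
  | 0 => exact h1
  | 1 => exact h2
  | 2 => exact h3
  | _ + 3 => exact one_mem _

/-- a ring isomorphism induces an isomorphism of special linear groups -/
def slCongr {F E : Type*} [CommRing F] [CommRing E] (e : F ≃+* E) : SL(2, F) ≃* SL(2, E) :=
  MonoidHom.toMulEquiv (Matrix.SpecialLinearGroup.map (e : F →+* E))
    (Matrix.SpecialLinearGroup.map (e.symm : E →+* F))
    (by ext g i j; simp) (by ext g i j; simp)

/-- a ring isomorphism induces an isomorphism of projective special linear groups -/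
def pslCongr {F E : Type*} [CommRing F] [CommRing E] (e : F ≃+* E) :
    Matrix.ProjectiveSpecialLinearGroup (Fin 2) F ≃* Matrix.ProjectiveSpecialLinearGroup (Fin 2) E :=
  QuotientGroup.congr _ _ (slCongr e) (by
    ext x
    constructor
    · rintro ⟨y, hy, rfl⟩
      exact (centerCongr (slCongr e) ⟨y, hy⟩).2
    · intro hx
      exact ⟨_, (centerCongr (slCongr e).symm ⟨x, hx⟩).2, (slCongr e).apply_symm_apply x⟩)

theorem nonempty_psl_of_cover {F : Type*} [Field F] {A : Type*} [Group A] {π : SL(2, F) →* A}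
    (h : CG.Cover π (-1)) : Nonempty (Matrix.ProjectiveSpecialLinearGroup (Fin 2) F ≃* A) := by
  have hk : center SL(2, F) = π.ker := by
    ext g
    rw [MonoidHom.mem_ker, h.ker]
    constructor
    · intro hg
      obtain ⟨r, h1, h2⟩ := Matrix.SpecialLinearGroup.mem_center_iff.1 hg
      rw [Fintype.card_fin, sq_eq_one_iff] at h1
      rcases h1 with rfl | rfl
      · exact Or.inl (Subtype.ext (by simpa using h2.symm))
      · exact Or.inr (Subtype.ext (by rw [← h2, map_neg, map_one]; rfl))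
    · rintro (rfl | rfl)
      · exact one_mem _
      · exact mem_center_iff.2 fun g => by simp
  exact ⟨(QuotientGroup.quotientMulEquivOfEq hk).trans
    (QuotientGroup.quotientKerEquivOfSurjective π h.surj)⟩

theorem nonempty_psl_five (F : Type*) [Field F] [Fintype F] (h : Fintype.card F = 5) :
    Nonempty (Matrix.ProjectiveSpecialLinearGroup (Fin 2) F ≃* A5) := by
  have : Fact (Nat.Prime 5) := ⟨Nat.prime_five⟩
  obtain ⟨π, hπ⟩ := CG.cover_SL25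
  obtain ⟨e⟩ := nonempty_psl_of_cover hπ
  exact ⟨(pslCongr (FiniteField.ringEquivOfCardEq (h.trans (ZMod.card 5).symm))).trans e⟩

end CfsgLib.J1
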