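import Mathlib
import Cfsg.Agent.Lib.J1.A5
import Cfsg.Agent.Lib.CG.Local
import Cfsg.Agent.Lib.SE.Basic
import Cfsg.Agent.Lib.PComplement
import Cfsg.Agent.Lib.CorePi

/-! Groups of order `175560` whose involution centralizers are `2 × A₅`: the normalizer of a
subgroup of order `3`. -/

set_option autoImplicit false

namespace CfsgLib.J1

open Subgroup Cfsg

variable {G : Type*} [Group G]

/-- `C(s) = ⟨s⟩ × φ(A₅)` -/
structure CI (s : G) (φ : A5 →* G) : Prop where
  inj : Function.Injective φ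
  ss : s * s = 1
  comm : ∀ y, φ y * s = s * φ y
  ne : ∀ y, φ y ≠ s
  cent : ∀ g, g * s = s * g → ∃ y, g = φ y ∨ g = s * φ y

namespace CI
variable {s : G} {φ : A5 →* G} (h : CI s φ)
include h

theorem s_ne : s ≠ 1 := fun e => h.ne 1 (by rw [map_one, e])

theorem ss' (x : G) : s * (s * x) = x := by rw [← mul_assoc, h.ss, one_mul]

theorem comp (τ : MulAut A5) : CI s (φ.comp τ.toMonoidHom) where
  inj := h.inj.comp τ.injective
  ss := h.ss
  comm := fun y => h.comm _
  ne := fun y => h.ne _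
  cent := fun g hg => by
    obtain ⟨y, hy⟩ := h.cent g hg
    exact ⟨τ.symm y, by simpa using hy⟩

theorem conj (g : G) : CI (g * s * g⁻¹) ((MulAut.conj g).toMonoidHom.comp φ) where
  inj := (MulAut.conj g).injective.comp h.inj
  ss := by rw [conj_mul, h.ss]; simp
  comm := fun y => by
    change g * φ y * g⁻¹ * _ = _ * (g * φ y * g⁻¹)
    rw [conj_mul, conj_mul, h.comm]
  ne := fun y e => h.ne y ((MulAut.conj g).injective e)
  cent := fun x hx => by
    obtain ⟨y, hy⟩ := h.cent (g⁻¹ * x * g) (by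
      calc g⁻¹ * x * g * s = g⁻¹ * (x * (g * s * g⁻¹)) * g := by group
        _ = _ := by rw [hx]; group)
    refine ⟨y, hy.imp (fun e => ?_) fun e => ?_⟩
    · change x = g * φ y * g⁻¹
      rw [← e]; group
    · change x = g * s * g⁻¹ * (g * φ y * g⁻¹)
      rw [conj_mul, ← e]; group

theorem ne_mul (y z : A5) : φ y ≠ s * φ z := fun e =>
  h.ne (y * z⁻¹) (by rw [map_mul, e, map_inv, mul_inv_cancel_right])

theorem mul_pow (y : A5) (n : ℕ) : (s * φ y) ^ n = s ^ n * φ (y ^ n) := by
  rw [map_pow]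
  exact (show Commute s (φ y) from (h.comm y).symm).mul_pow n

theorem sq_mul (y : A5) : s * φ y * (s * φ y) = φ (y * y) := by
  rw [← pow_two, h.mul_pow, pow_two, h.ss, one_mul, pow_two]

theorem of_odd {g : G} (hg : g * s = s * g) {n : ℕ} (hn : Odd n) (h1 : g ^ n = 1) :
    ∃ y, g = φ y := by
  obtain ⟨y, e | e⟩ := h.cent g hg
  · exact ⟨y, e⟩
  · obtain ⟨k, rfl⟩ := hn
    rw [e, h.mul_pow, pow_succ s, pow_mul, pow_two, h.ss, one_pow, one_mul] at h1
    exact absurd (by rw [map_one, h1]) (h.ne_mul 1 (y ^ (2 * k + 1)))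

theorem comm_iff {y z : A5} : φ y * φ z = φ z * φ y ↔ y * z = z * y := by
  rw [← map_mul, ← map_mul, h.inj.eq_iff]

theorem comm_mul_iff (g : G) (hg : g * s = s * g) {x : G} :
    s * x * g = g * (s * x) ↔ x * g = g * x := by
  rw [← mul_assoc, hg, mul_assoc, mul_assoc, mul_left_cancel_iff]

/-- `2`-elements of the centralizer square to `1` -/
theorem sq_of_two {g : G} (hg : g * s = s * g) {k : ℕ} (h1 : g ^ 2 ^ k = 1) : g * g = 1 := by
  have h2 : (g * g) ^ 2 ^ k = 1 := by rw [← pow_two, ← pow_mul, mul_comm, pow_mul, h1, one_pow]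
  have key : ∀ y : A5, g * g = φ (y * y) → g * g = 1 := fun y e => by
    rw [e, ← map_pow, map_eq_one_iff φ h.inj, ← pow_two, ← pow_mul, ← pow_succ'] at h2
    rw [e, CG.alt_sq 5 (Or.inr rfl) y _ h2, map_one]
  obtain ⟨y, e | e⟩ := h.cent g hg
  · exact key y (by rw [e, map_mul])
  · exact key y (by rw [e, h.sq_mul])

end CI

/-- the standing hypothesis -/
structure JH (G : Type*) [Group G] : Prop where
  card : Nat.card G = 175560
  ci : ∀ s : G, s * s = 1 → s ≠ 1 → ∃ φ, CI s φ
  e2 : CG.E2 G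

variable [Finite G]

theorem JH.cent_x (hG : JH G) {e : G} {φ : A5 →* G} (h : CI e φ) :
    ∃ O : Subgroup G, O ≤ centralizer {φ (pA * qA)} ∧ Odd (Nat.card O) ∧
      normalizer (zpowers (φ (pA * qA)) : Set G) ≤ normalizer (O : Set G) ∧
      ¬ O ≤ zpowers (φ (pA * qA)) := by
  set x := φ (pA * qA) with hx
  set C : Subgroup G := centralizer {x} with hC
  have heC : e ∈ C := mem_centralizer_singleton_iff.2 (h.comm _).symm
  have hoe : orderOf e = 2 := orderOf_eq_prime (by rw [pow_two, h.ss]) h.s_ne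
  obtain ⟨P, hP⟩ := (IsPGroup.of_card (p := 2) (n := 1) (G := zpowers (⟨e, heC⟩ : C))
    (by rw [Nat.card_zpowers, ← orderOf_coe, hoe, pow_one])).exists_le_sylow
  have hsq : ∀ y ∈ (P : Subgroup C), y * y = 1 := fun y hy => by
    obtain ⟨k, hk⟩ := P.2 ⟨y, hy⟩
    exact Subtype.ext (hG.e2 y k (congrArg (fun z : (P : Subgroup C) => ((z : C) : G)) hk))
  have hPe : (P : Subgroup C) = zpowers ⟨e, heC⟩ := by
    refine le_antisymm (fun y hy => ?_) hP
    have h1 : (y : G) * e = e * y :=
      congrArg Subtype.val (CG.comm_of_sq hsq hy (hP (mem_zpowers _)))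
    have h2 : (y : G) * y = 1 := congrArg Subtype.val (hsq y hy)
    have h3 : (y : G) * x = x * y := mem_centralizer_singleton_iff.1 y.2
    have key : ∀ z : A5, φ z * x = x * φ z → φ (z * z) = 1 → z = 1 := fun z h4 h5 => by
      rw [map_eq_one_iff φ h.inj] at h5
      rcases cent_pq z (h.comm_iff.1 h4) with rfl | rfl | rfl
      · rfl
      · exact absurd h5 (by decide)
      · exact absurd h5 (by decide)
    obtain ⟨z, e1 | e1⟩ := h.cent y h1
    · have := key z (e1 ▸ h3) (by rw [map_mul, ← e1, h2])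
      rw [this, map_one] at e1
      rw [show y = 1 from Subtype.ext e1]
      exact one_mem _
    · have := key z ((h.comm_mul_iff x (h.comm _)).1 (e1 ▸ h3)) (by rw [← h.sq_mul, ← e1, h2])
      rw [this, map_one, mul_one] at e1
      rw [show y = ⟨e, heC⟩ from Subtype.ext e1]
      exact mem_zpowers _
  have hn := PCompl.hnpc_two_of_isCyclic P (hPe ▸ inferInstance)
  have hc := (PCompl.hnpc_isComplement' hn P).card_mul_card
  rw [← PCompl.hnpc_pPrimeCore_eq_pResidual hn, hPe, Nat.card_zpowers, ← orderOf_coe, hoe] at hc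
  have hCN : C = centralizer (zpowers x : Set G) := by
    rw [hC, zpowers_eq_closure, centralizer_closure]
  refine ⟨(pPrimeCore 2 C).map C.subtype, map_subtype_le _,
    Nat.coprime_two_right.1 (map_pPrimeCore_coprime 2 C),
    le_trans ?_ (normalizer_le_normalizer_map_pPrimeCore 2 C), fun hle => ?_⟩
  · rw [hCN]
    exact le_normalizer_of_normal_subgroupOf (centralizer_le_normalizer _)
  have : Fact (Nat.Prime 3) := ⟨Nat.prime_three⟩
  have hox : orderOf x = 3 := by
    rw [hx, orderOf_injective φ h.inj]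
    exact orderOf_eq_prime (by decide) (by decide)
  have h3 : Nat.card (zpowers x) = 3 := by rw [Nat.card_zpowers, hox]
  have h6 : Nat.card C ≤ 6 := by
    have := card_le_of_le hle
    rw [card_map_subtype, h3] at this
    omega
  let Q : Sylow 3 G := Sylow.ofCard (zpowers x) (by
    rw [h3, hG.card, show 175560 = 3 * 58520 by norm_num,
      Nat.factorization_mul (by norm_num) (by norm_num)]
    simp [Nat.prime_three.factorization, Nat.factorization_eq_zero_of_not_dvd])
  have h1 := card_sylow_modEq_one 3 G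
  rw [Q.card_eq_index_normalizer] at h1
  change (normalizer (zpowers x : Set G)).index ≡ 1 [MOD 3] at h1
  set N := normalizer (zpowers x : Set G) with hN
  have h2 := N.card_mul_index
  rw [hG.card] at h2
  have h12 : Nat.card N ≤ 12 := by
    have h4 := (zpowers x).normalizerMonoidHom.ker.card_mul_index
    have h5 : (zpowers x).normalizerMonoidHom.ker.index ≤ 2 := by
      rw [index_ker]
      refine (Nat.le_of_dvd Nat.card_pos (card_subgroup_dvd_card _)).trans ?_
      rw [IsCyclic.card_mulAut, h3]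
      decide
    have h7 : Nat.card (zpowers x).normalizerMonoidHom.ker ≤ Nat.card C := by
      rw [normalizerMonoidHom_ker, Suz.card_subgroupOf_eq, hCN]
      exact card_le_of_le inf_le_left
    rw [← h4]
    exact (Nat.mul_le_mul (h7.trans h6) h5)
  have hF : GW.Four e (φ pA) := ⟨hoe, by
    rw [orderOf_injective φ h.inj]; exact orderOf_eq_prime (by decide) (by decide),
    (h.comm _).symm, (h.ne _).symm⟩
  have h4 : 4 ∣ Nat.card N := by
    rw [← hF.card_V]
    refine card_dvd_of_le (GW.V_le (centralizer_le_normalizer _ (hCN ▸ heC)) ?_)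
    refine mem_normalizer_fintype ?_
    rintro _ ⟨k, rfl⟩
    have e1 : φ pA * x * (φ pA)⁻¹ = x⁻¹ := by
      rw [hx, ← map_inv, ← map_inv, ← map_mul, ← map_mul]; congr 1; decide
    simp only
    rw [← conj_zpow, e1]
    exact zpow_mem (inv_mem (mem_zpowers x)) k
  have h5 : 3 ∣ Nat.card N := h3 ▸ card_dvd_of_le le_normalizer
  have h7 : 0 < Nat.card N := Nat.card_pos
  have h8 : Nat.card N = 12 := by omega
  rw [h8] at h2
  have h9 : N.index = 14630 := by omega
  rw [h9] at h1
  revert h1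
  decide

theorem JH.exists_w (hG : JH G) {e : G} {φ : A5 →* G} (h : CI e φ) :
    ∃ a w : G, (a = φ pA ∨ a = φ pA * e) ∧ w ^ 5 = 1 ∧ w ≠ 1 ∧ w * φ (pA * qA) = φ (pA * qA) * w ∧
      w * a = a * w ∧ e * w * e * w = 1 := by
  obtain ⟨O, h1, h2, h3, h4⟩ := hG.cent_x h
  set x := φ (pA * qA) with hx
  have hex : e * x = x * e := (h.comm _).symm
  have hie : SE.IsInv e := ⟨h.ss, h.s_ne⟩
  have hiu : SE.IsInv (φ pA) := ⟨by rw [← map_mul, map_eq_one_iff φ h.inj]; decide,
    by rw [Ne, map_eq_one_iff φ h.inj]; decide⟩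
  have heO : e ∈ normalizer (O : Set G) := h3 (centralizer_le_normalizer _ (by
    rintro _ ⟨k, rfl⟩
    exact ((show Commute x e from hex.symm).zpow_left k).eq))
  have huO : φ pA ∈ normalizer (O : Set G) := h3 (mem_normalizer_fintype (by
    rintro _ ⟨k, rfl⟩
    have e1 : φ pA * x * (φ pA)⁻¹ = x⁻¹ := by
      rw [hx, ← map_inv, ← map_inv, ← map_mul, ← map_mul]; congr 1; decide
    simp only
    rw [← conj_zpow, e1]
    exact zpow_mem (inv_mem (mem_zpowers x)) k))
  have hOe : O ⊓ centralizer {e} ≤ zpowers x := fun y hy => by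
    obtain ⟨z, rfl⟩ := h.of_odd (mem_centralizer_singleton_iff.1 hy.2) h2 (Suz.pow_card_of_mem hy.1)
    rcases cent_pq z (h.comm_iff.1 (mem_centralizer_singleton_iff.1 (h1 hy.1))) with rfl | rfl | rfl
    · rw [map_one]; exact one_mem _
    · exact mem_zpowers _
    · rw [map_pow]; exact pow_mem (mem_zpowers _) 2
  obtain ⟨a, ha, h5⟩ : ∃ a, (a = φ pA ∨ a = φ pA * e) ∧ ¬ O ⊓ centralizer {a} ≤ zpowers x := by
    by_contra hc
    push Not at hc
    exact h4 (SE.le_of_four hiu hie (h.ne _) (h.comm _) h2 huO heO (hc _ (Or.inl rfl)) hOe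
      (hc _ (Or.inr rfl)))
  have hae : e * a = a * e := by
    rcases ha with rfl | rfl
    · exact (h.comm _).symm
    · rw [← mul_assoc, h.comm]
  have haa : a * a = 1 ∧ a ≠ 1 := by
    rcases ha with rfl | rfl
    · exact hiu
    · exact SE.isInv_mul hiu hie (h.ne _) (h.comm _)
  obtain ⟨w, hw, hw1, hw2⟩ := SE.exists_inverted hie (X := O ⊓ centralizer {a})
    (mem_normalizer_fintype fun y hy => ⟨(mem_normalizer_iff.1 heO y).1 hy.1,
      mem_centralizer_singleton_iff.2 (by
        have := mem_centralizer_singleton_iff.1 hy.2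
        rw [hie.inv_eq, mul_assoc, hae, ← mul_assoc, mul_assoc e y, this, ← mul_assoc, hae,
          mul_assoc, mul_assoc, mul_assoc])⟩)
    fun hle => h5 fun y hy => hOe ⟨hy.1, hle hy⟩
  rw [hie.inv_eq] at hw2
  have hwx := mem_centralizer_singleton_iff.1 (h1 hw.1)
  have hwa := mem_centralizer_singleton_iff.1 hw.2
  have hodd := SE.odd_orderOf_of_mem h2 hw.1
  refine ⟨a, w, ha, ?_, hw1, hwx, hwa, by rw [hw2, inv_mul_cancel]⟩
  obtain ⟨ψ, hψ⟩ := hG.ci a haa.1 haa.2
  obtain ⟨z, rfl⟩ := hψ.of_odd hwa hodd (pow_orderOf_eq_one w)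
  rcases A5_orders z with h6 | h6 | h6
  · exact absurd (GW.eq_one_of_odd_of_mul_self hodd (by rw [← map_mul, h6, map_one])) hw1
  · exfalso
    have : Fact (Nat.Prime 3) := ⟨Nat.prime_three⟩
    have hox : orderOf x = 3 := by
      rw [hx, orderOf_injective φ h.inj]
      exact orderOf_eq_prime (by decide) (by decide)
    have how : orderOf (ψ z) = 3 := orderOf_eq_prime (by rw [← map_pow, h6, map_one]) hw1
    have hP : IsPGroup 3 (zpowers (ψ z) ⊔ zpowers x : Subgroup G) := by
      refine IsPGroup.to_sup_of_normal_right'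
        (IsPGroup.of_card (n := 1) (by rw [Nat.card_zpowers, how, pow_one]))
        (IsPGroup.of_card (n := 1) (by rw [Nat.card_zpowers, hox, pow_one])) ?_
      refine le_trans ?_ (centralizer_le_normalizer _)
      rw [zpowers_le]
      rintro _ ⟨k, rfl⟩
      exact ((show Commute x (ψ z) from hwx.symm).zpow_left k).eq
    obtain ⟨k, hk⟩ := IsPGroup.iff_card.1 hP
    have h7 : 3 ^ k ∣ 175560 := by rw [← hk, ← hG.card]; exact card_subgroup_dvd_card _
    have h8 : k ≤ 1 := by
      by_contra h9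
      have := (pow_dvd_pow 3 (show 2 ≤ k by omega)).trans h7
      norm_num at this
    have h9 : zpowers x = zpowers (ψ z) ⊔ zpowers x := eq_of_le_of_card_ge le_sup_right (by
      rw [hk, Nat.card_zpowers, hox]
      exact Nat.pow_le_pow_right (by norm_num) h8)
    obtain ⟨j, hj⟩ : ψ z ∈ zpowers x := h9 ▸ mem_sup_left (mem_zpowers _)
    have h10 : e * ψ z = ψ z * e := by
      rw [← hj]; exact ((show Commute e x from hex).zpow_right j).eq
    rw [h10, mul_assoc, h.ss, mul_one] at hw2
    exact hw1 (GW.eq_one_of_odd_of_mul_self hodd (mul_eq_one_iff_eq_inv.2 hw2))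
  · rw [← map_pow, h6, map_one]

end CfsgLib.J1
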