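import Cfsg.Prelude.Def_Spor_J1
import Cfsg.Agent.Lib.J1.Cert

/-! Five involutions generating the matrix group `J₁` and their relations. -/

set_option autoImplicit false

namespace CfsgLib.J1

open TC Cfsg Cfsg.Spor

def mkN (f : ℕ → ℕ) : ℕ → ℕ
  | 0 => 0
  | n + 1 => mkN f n + f n <<< (16 * n)

theorem mkN_lt {f : ℕ → ℕ} (hf : ∀ k, f k < 65536) (n : ℕ) : mkN f n < 2 ^ (16 * n) := by
  induction n with
  | zero => simp [mkN]
  | succ n ih =>
    rw [mkN, Nat.shiftLeft_eq, mul_add, pow_add]
    have h1 : f n * 2 ^ (16 * n) ≤ 65535 * 2 ^ (16 * n) :=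
      Nat.mul_le_mul_right _ (Nat.le_of_lt_succ (hf n))
    omega

theorem get_mkN {f : ℕ → ℕ} (hf : ∀ k, f k < 65536) {n k : ℕ} (h : k < n) :
    get (mkN f n) k = f k := by
  induction n with
  | zero => omega
  | succ n ih =>
    rw [mkN, Nat.shiftLeft_eq]
    rcases Nat.lt_succ_iff_lt_or_eq.1 h with h1 | rfl
    · obtain ⟨d, rfl⟩ := Nat.exists_eq_add_of_lt h1
      rw [← ih h1, TC.get, TC.get, Nat.shiftRight_eq_div_pow, Nat.shiftRight_eq_div_pow,
        show f (k + d + 1) * 2 ^ (16 * (k + d + 1)) =
          2 ^ (16 * k) * (65536 * (f (k + d + 1) * 2 ^ (16 * d))) by ring,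
        Nat.add_mul_div_left _ _ (by positivity), Nat.add_mul_mod_self_left]
    · rw [TC.get, Nat.shiftRight_eq_div_pow, Nat.add_mul_div_right _ _ (by positivity),
        Nat.div_eq_of_lt (mkN_lt hf k), zero_add, Nat.mod_eq_of_lt (hf k)]

def dotN (a b i j : ℕ) : ℕ :=
  (get a (7 * i) * get b (0 + j) + get a (7 * i + 1) * get b (7 + j) + get a (7 * i + 2) * get b (14 + j) +
    get a (7 * i + 3) * get b (21 + j) + get a (7 * i + 4) * get b (28 + j) +
    get a (7 * i + 5) * get b (35 + j) + get a (7 * i + 6) * get b (42 + j)) % 11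

def mulN (a b : ℕ) : ℕ := mkN (fun n => dotN a b (n / 7) (n % 7)) 49

def toMat (m : ℕ) : Matrix (Fin 7) (Fin 7) (ZMod 11) :=
  Matrix.of fun i j => ((get m (7 * i.val + j.val) : ℕ) : ZMod 11)

theorem toMat_mulN (a b : ℕ) : toMat (mulN a b) = toMat a * toMat b := by
  ext i j
  have hi := i.2
  have hj := j.2
  rw [Matrix.mul_apply, Fin.sum_univ_seven]
  simp only [toMat, Matrix.of_apply, mulN]
  rw [get_mkN (f := fun n => dotN a b (n / 7) (n % 7))
    (fun k => lt_trans (Nat.mod_lt _ (by norm_num)) (by norm_num)) (by omega),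
    show (7 * i.val + j.val) / 7 = i.val by omega, show (7 * i.val + j.val) % 7 = j.val by omega,
    dotN, ZMod.natCast_mod]
  push_cast
  rfl

def oneN : ℕ := 0x1000000000000000000000000000000010000000000000000000000000000000100000000000000000000000000000001000000000000000000000000000000010000000000000000000000000000000100000000000000000000000000000001

theorem toMat_one : toMat oneN = 1 := by decide +kernel

def evN (code : List ℕ) : List ℕ → ℕ
  | [] => oneN
  | j :: w => force (evN code w) fun m => mulN (code.getD j oneN) m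

theorem toMat_evN {g : ℕ → GL (Fin 7) (ZMod 11)} {code : List ℕ}
    (h : ∀ j, (g j : Matrix (Fin 7) (Fin 7) (ZMod 11)) = toMat (code.getD j oneN)) {w : List ℕ}
    (h0 : evN code w ≠ 0) : (ev g w).val = toMat (evN code w) := by
  induction w with
  | nil => exact toMat_one.symm
  | cons j w ih =>
    rw [evN] at h0 ⊢
    obtain ⟨h1, h2⟩ := force_ne h0
    rw [h2, toMat_mulN, ev_cons, Units.val_mul, h, ih h1]

def codeXY : List ℕ :=
  [0x1000100000000000000000000000000000001000000000000000000000000000000010000000000000000000000000000000100000000000000000000000000000001000000000000000000000000000000010000,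
   0x10003000100010009000300030003000100010009000300030001000a000a000200080008000a0008000a000200080008000a0008000a000200080008000a0008000a000a00030003000100030001000100090008000a0008000a000a00020008]

def gXY (j : ℕ) : GL (Fin 7) (ZMod 11) := [jankoX, jankoY].getD j 1

theorem gXY_eq (j : ℕ) :
    (gXY j : Matrix (Fin 7) (Fin 7) (ZMod 11)) = toMat (codeXY.getD j oneN) := by
  match j with
  | 0 => exact (by decide +kernel : jankoMatrixX = toMat (codeXY.getD 0 oneN))
  | 1 => exact (by decide +kernel : jankoMatrixY = toMat (codeXY.getD 1 oneN))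
  | _ + 2 => exact toMat_one.symm

def wordsXY : List (List ℕ) :=
  [[], [0, 1, 0, 0, 1, 1, 1, 1, 0], [1, 1, 0, 1, 0, 0, 1, 1, 1, 0, 0, 1, 1, 1], [1, 0, 0, 1, 1, 1, 1, 0, 0], [0, 1, 1, 0, 1, 1, 0, 1, 1, 0, 1, 0, 1, 1, 0], [0, 1, 0, 1, 1, 1, 1]]

/-- the involutions `a, b, c, d, e` of `J₁` -/
def gJ (j : ℕ) : GL (Fin 7) (ZMod 11) := ev gXY (wordsXY.getD j [])

def codeJ : List ℕ :=
  [oneN,
   0xa0000000000000000000000000000000a0000000000000000000000000000000a000000000000000000000000000000010000000000000000000000000000000a0000000000000000000000000000000100000000000000000000000000000001,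
   0x8000000090000000000010008000000070000000900050000000000090000000800000000000100080000000900000005000700000000000000050000000700090000000000010000000100000000000800010008000000080000000000010009,
   0xa0000000000000000000000000000000a000000000000000000000000000000010000000000000000000000000000000a00000000000000000000000000000001000000000000000000000000000000010000000000000000000000000000000a,
   0x3000a00010000000100000000000a00020008000000080000000000010008000300000002000000000000000000000007000000020005000100080002000000030000000000000000000000020000000500040000000000000005000000040009,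
   0xa000000000000000000000000000000010000000000000000000000000000000a00000000000000000000000000000001000000000000000000000000000000010000000000000000000000000000000a0000000000000000000000000000000a]

theorem gJ_eq (j : ℕ) : (gJ j : Matrix (Fin 7) (Fin 7) (ZMod 11)) = toMat (codeJ.getD j oneN) := by
  have key : ∀ j < 6, evN codeXY (wordsXY.getD j []) = codeJ.getD j oneN ∧ codeJ.getD j oneN ≠ 0 := by
    decide +kernel
  by_cases hj : j < 6
  · rw [gJ, toMat_evN gXY_eq ((key j hj).1 ▸ (key j hj).2), (key j hj).1]
  · rw [gJ, List.getD_eq_default _ _ (by simp [wordsXY]; omega),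
      List.getD_eq_default _ _ (by simp [codeJ]; omega)]
    exact toMat_one.symm

theorem gJ_mem (j : ℕ) : gJ j ∈ J1 := ev_mem fun k _ => by
  match k with
  | 0 => exact Subgroup.subset_closure (by simp [gXY])
  | 1 => exact Subgroup.subset_closure (by simp [gXY])
  | _ + 2 => exact one_mem _

theorem ev_gJ_eq {w : List ℕ} {x : GL (Fin 7) (ZMod 11)} {m : ℕ} (h1 : evN codeJ w = m) (h2 : m ≠ 0)
    (h3 : (x : Matrix (Fin 7) (Fin 7) (ZMod 11)) = toMat m) : ev gJ w = x :=
  Units.ext (by rw [toMat_evN gJ_eq (h1 ▸ h2), h1, h3])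

theorem gJ_rel : ∀ w ∈ relA [], ev gJ w = 1 := fun w hw =>
  ev_gJ_eq ((by decide +kernel : ∀ w ∈ relA [], evN codeJ w = oneN) w hw) (by decide)
    toMat_one.symm

theorem gJ_sq (j : ℕ) : gJ j * gJ j = 1 := by
  by_cases hj : j < 6
  · have := ev_gJ_eq ((by decide +kernel : ∀ j < 6, evN codeJ [j, j] = oneN) j hj) (by decide)
      (x := 1) toMat_one.symm
    simpa [ev] using this
  · rw [gJ, List.getD_eq_default _ _ (by simp [wordsXY]; omega)]
    simp [ev]

theorem gJ_seven : gJ 7 = 1 := rfl

theorem J1_le {H : Subgroup (GL (Fin 7) (ZMod 11))} (h : ∀ j ∈ [1, 2, 3, 4, 5], gJ j ∈ H) :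
    J1 ≤ H := by
  refine (Subgroup.closure_le _).2 ?_
  rintro x (rfl | rfl)
  · rw [← ev_gJ_eq (w := [4, 3, 5, 4, 5, 4, 3, 2, 1, 3, 2, 3, 2]) (by decide +kernel) (by decide) (x := jankoX) (gXY_eq 0)]
    exact ev_mem fun j hj => h j (by revert j; decide)
  · rw [← ev_gJ_eq (w := [2, 3, 2, 3, 2, 4, 5, 4, 3, 2, 1, 3, 4]) (by decide +kernel) (by decide) (x := jankoY) (gXY_eq 1)]
    exact ev_mem fun j hj => h j (by revert j; decide)

theorem jankoX_ne_one : jankoX ≠ 1 := fun h => by
  have := congrArg (fun m : GL (Fin 7) (ZMod 11) => m 0 0) h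
  revert this
  decide +kernel

end CfsgLib.J1
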