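import Mathlib
import Cfsg.Agent.Lib.J1.Local
import Cfsg.Agent.Lib.J1.Mat

/-! Groups of order `175560` whose involution centralizers are `2 × A₅`: five involutions and
their relations. -/

set_option autoImplicit false

namespace CfsgLib.J1

open Subgroup Cfsg TC

variable {G : Type*} [Group G]

abbrev MM : Type := A5 × ℤˣ

namespace CI
variable {s : G} {φ : A5 →* G} (h : CI s φ)

/-- the isomorphism of `A₅ × 2` with the centralizer -/
def big : MM →* G := MonoidHom.mk' (fun y => φ y.1 * if y.2 = 1 then 1 else s) (by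
  rintro ⟨y, u⟩ ⟨z, v⟩
  have h1 : (-1 : ℤˣ) ≠ 1 := by decide
  rcases Int.units_eq_one_or u with rfl | rfl <;> rcases Int.units_eq_one_or v with rfl | rfl
  · simp
  · simp [h1, mul_assoc]
  · simp [h1, mul_assoc, h.comm z]
  · simp [h1, mul_assoc, h.comm z, h.ss'])

theorem big_one (y : A5) : h.big (y, 1) = φ y := mul_one _

theorem big_neg (y : A5) : h.big (y, -1) = s * φ y := h.comm y

theorem big_s : h.big (1, -1) = s := by rw [h.big_neg, map_one, mul_one]

theorem big_inj : Function.Injective h.big := by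
  rw [injective_iff_map_eq_one]
  rintro ⟨y, u⟩ e
  rcases Int.units_eq_one_or u with rfl | rfl
  · rw [h.big_one, map_eq_one_iff φ h.inj] at e
    rw [e]; rfl
  · rw [h.big_neg] at e
    exact absurd (by rw [map_one, e]) (h.ne_mul 1 y)

theorem ev_eq {g : ℕ → G} {g₀ : ℕ → MM} {J : List ℕ} (hg : ∀ j ∈ J, g j = h.big (g₀ j))
    {w : List ℕ} (hw : ∀ j ∈ w, j ∈ J) : ev g w = h.big (ev g₀ w) := by
  rw [map_ev]
  exact ev_congr fun j hj => hg j (hw j hj)

theorem ev_eq_ev {g : ℕ → G} {g₀ : ℕ → MM} {J : List ℕ} (hg : ∀ j ∈ J, g j = h.big (g₀ j))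
    {w w' : List ℕ} (hw : (∀ j ∈ w, j ∈ J) ∧ (∀ j ∈ w', j ∈ J) ∧ ev g₀ w = ev g₀ w') :
    ev g w = ev g w' := by
  rw [h.ev_eq hg hw.1, h.ev_eq hg hw.2.1, hw.2.2]

end CI

/-- the configuration of the centralizers of two commuting involutions `e` and `a` -/
structure Conf (e a d : G) (φ ψ : A5 →* G) : Prop where
  ce : CI e φ
  ca : CI a ψ
  ha : a = φ pA ∨ a = φ pA * e
  hr : (ψ rA = e ∧ ψ qA = d) ∨ (ψ rA = a * e ∧ ψ qA = a * d)
  hp : ψ pA = φ rA ∨ ψ pA = a * φ rA
  bd : a * φ (pA * qA) * d = d * (a * φ (pA * qA))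

theorem exists_conf {e a w : G} {φ ψ : A5 →* G} (ce : CI e φ) (ca : CI a ψ)
    (ha : a = φ pA ∨ a = φ pA * e) (h5 : w ^ 5 = 1) (h1 : w ≠ 1)
    (hx : w * φ (pA * qA) = φ (pA * qA) * w) (hwa : w * a = a * w) (hwe : e * w * e * w = 1) :
    ∃ (τ : MulAut A5) (d : G), Conf e a d φ (ψ.comp τ.toMonoidHom) := by
  have ha' : ∃ k, a = ce.big (pA, k) := by
    rcases ha with h | h
    · exact ⟨1, by rw [h, ce.big_one]⟩
    · exact ⟨-1, by rw [h, ce.big_neg, ce.comm]⟩
  obtain ⟨k, hk⟩ := ha'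
  have hk' : k = 1 ∨ k = -1 := Int.units_eq_one_or k
  have hea : e * a = a * e := by
    rcases ha with rfl | rfl
    · exact (ce.comm _).symm
    · rw [← mul_assoc, ce.comm]
  have hca : φ rA * a = a * φ rA := by
    rw [hk, ← ce.big_one, ← map_mul, ← map_mul]; congr 1
    rcases hk' with rfl | rfl <;> decide
  obtain ⟨z, rfl⟩ := ca.of_odd hwa (by decide : Odd 5) h5
  obtain ⟨u, hu⟩ : ∃ u, ψ u = e ∨ ψ u = a * e := by
    obtain ⟨u, h | h⟩ := ca.cent e hea
    · exact ⟨u, Or.inl h.symm⟩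
    · exact ⟨u, Or.inr (by rw [h, ca.ss'])⟩
  obtain ⟨c, hc⟩ : ∃ c, ψ c = φ rA ∨ ψ c = a * φ rA := by
    obtain ⟨u, h | h⟩ := ca.cent _ hca
    · exact ⟨u, Or.inl h.symm⟩
    · exact ⟨u, Or.inr (by rw [h, ca.ss'])⟩
  obtain ⟨U, hU, hU'⟩ : ∃ U : MM, ψ u = ce.big U ∧ (U = (1, -1) ∨ U = (pA, k) * (1, -1)) := by
    rcases hu with h | h
    · exact ⟨_, by rw [h, ce.big_s], Or.inl rfl⟩
    · exact ⟨_, by rw [h, map_mul, ce.big_s, hk], Or.inr rfl⟩
  obtain ⟨C, hC, hC'⟩ : ∃ C : MM, ψ c = ce.big C ∧ (C = (rA, 1) ∨ C = (pA, k) * (rA, 1)) := by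
    rcases hc with h | h
    · exact ⟨_, by rw [h, ce.big_one], Or.inl rfl⟩
    · exact ⟨_, by rw [h, map_mul, ce.big_one, hk], Or.inr rfl⟩
  have key : U * U = 1 ∧ U ≠ 1 ∧ C * C = 1 ∧ C ≠ 1 ∧ U ≠ C ∧ U * C = C * U := by
    rcases hk' with rfl | rfl <;> rcases hU' with rfl | rfl <;> rcases hC' with rfl | rfl <;>
      decide
  obtain ⟨k1, k2, k3, k4, k5, k6⟩ := key
  obtain ⟨τ, t1, t2, i, t3⟩ := exists_normalize (u := u) (c := c) (w := z)
    (ca.inj (by rw [map_mul, hU, ← map_mul, k1, map_one, map_one]))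
    (fun e1 => k2 (ce.big_inj (by rw [← hU, e1, map_one, map_one])))
    (ca.inj (by rw [map_mul, hC, ← map_mul, k3, map_one, map_one]))
    (fun e1 => k4 (ce.big_inj (by rw [← hC, e1, map_one, map_one])))
    (fun e1 => k5 (ce.big_inj (by rw [← hC, ← hU, e1])))
    (ca.inj (by rw [map_mul, map_mul, hU, hC, ← map_mul, k6, map_mul]))
    (ca.inj (by rw [map_pow, h5, map_one])) (fun e1 => h1 (by rw [e1, map_one]))
    (ca.inj (by
      rw [map_mul, map_mul, map_mul, map_one]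
      rcases hu with h | h
      · rw [h, hwe]
      · rw [h, ← hwe]
        calc a * e * ψ z * (a * e) * ψ z = a * e * (ψ z * a) * e * ψ z := by group
          _ = a * (e * a) * ψ z * e * ψ z := by rw [hwa]; group
          _ = _ := by rw [hea, ca.ss']))
  refine ⟨τ, e * ψ z ^ i, ce, ca.comp τ, ha, ?_, ?_, ?_⟩
  · change (ψ (τ rA) = _ ∧ ψ (τ qA) = _) ∨ (ψ (τ rA) = _ ∧ ψ (τ qA) = _)
    rw [t2, t3, map_mul, map_pow]
    exact hu.imp (fun h => ⟨h, by rw [h]⟩) fun h => ⟨h, by rw [h, mul_assoc]⟩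
  · change ψ (τ pA) = _ ∨ ψ (τ pA) = _
    rwa [t1]
  · exact (((show Commute a e from hea.symm).mul_right
      ((show Commute a (ψ z) from hwa.symm).pow_right i)).mul_left
      ((show Commute (φ _) e from ce.comm _).mul_right
      ((show Commute (φ _) (ψ z) from hx.symm).pow_right i))).eq

/-- the element of order `3` of `A₅` normalizing the four-group `⟨p, r⟩` -/
def fA : A5 := qA * pA * rA * qA * rA * qA

theorem fA_p : fA * pA * fA⁻¹ = pA * rA := by decide +kernel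

theorem fA_r : fA * rA * fA⁻¹ = pA := by decide +kernel

def lstS (a c u : MM) : List MM := [1, a, c, u, a * c, a * u, c * u, a * c * u]

def prS (a c u : MM) : List (MM × MM) := (lstS a c u).zip (lstS a (c * u) c)

def actS (a c u : MM) : List Bool → MM → MM
  | [], y => y
  | true :: m, y => ((prS a c u).lookup (actS a c u m y)).getD 1
  | false :: m, y => (fA, 1) * actS a c u m y * (fA, 1)⁻¹

def okS (a c u : MM) (m : List Bool) : Prop :=
  (∀ y ∈ lstS a c u, (y, ((prS a c u).lookup y).getD 1) ∈ prS a c u ∧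
    ((prS a c u).lookup y).getD 1 ∈ lstS a c u ∧ (fA, 1) * y * (fA, 1)⁻¹ ∈ lstS a c u) ∧
  (1, -1) ∈ lstS a c u ∧ a.1 = pA ∧ actS a c u (m ++ m) a = a ∧
  actS a c u (m ++ m) (1, -1) = (1, -1) ∧
  ∃ y ∈ lstS a c u, (actS a c u m y * y) ≠ 1 ∧ (actS a c u m y * y) ^ 2 = 1

set_option synthInstance.maxSize 2000 in
instance okS_dec (a c u : MM) (m : List Bool) : Decidable (okS a c u m) := by
  unfold okS; infer_instance

theorem bad_aux (h2 : CG.E2 G) {e a : G} {φ ψ : A5 →* G} (ce : CI e φ) (ca : CI a ψ)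
    {a' c' u' : MM} (ha : a = ce.big a') (hc : ψ pA = ce.big c') (hu : ψ rA = ce.big u')
    {m : List Bool} (hm : okS a' c' u' m) : False := by
  obtain ⟨h1, h3, h4, h5, h6, y, hy, h7, h8⟩ := hm
  let θ := (MulAut.conj (ψ fA)).toMonoidHom
  have t1 : θ (ce.big a') = ce.big a' := by
    rw [← ha]; exact mul_inv_eq_iff_eq_mul.2 (ca.comm _)
  have t2 : θ (ce.big c') = ce.big (c' * u') := by
    rw [map_mul, ← hc, ← hu]
    change ψ fA * _ * (ψ fA)⁻¹ = _
    rw [← map_inv, ← map_mul, ← map_mul, ← map_mul, fA_p]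
  have t3 : θ (ce.big u') = ce.big c' := by
    rw [← hc, ← hu]
    change ψ fA * _ * (ψ fA)⁻¹ = _
    rw [← map_inv, ← map_mul, ← map_mul, fA_r]
  have t4 : ∀ z ∈ prS a' c' u', θ (ce.big z.1) = ce.big z.2 := by
    simp only [prS, lstS, List.zip_cons_cons, List.zip_nil_right, List.mem_cons, List.not_mem_nil,
      or_false, forall_eq_or_imp, forall_eq, map_mul, map_one, t1, t2, t3, and_self]
  let γ : List Bool → G := fun m => (m.map fun b => if b then ψ fA else φ fA).prod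
  have key : ∀ m : List Bool, ∀ y ∈ lstS a' c' u', actS a' c' u' m y ∈ lstS a' c' u' ∧
      γ m * ce.big y * (γ m)⁻¹ = ce.big (actS a' c' u' m y) := by
    intro m y hy
    induction m with
    | nil => exact ⟨hy, by simp [γ, actS]⟩
    | cons b m ih =>
      obtain ⟨i1, i2⟩ := ih
      have e1 : ∀ x : G, x * γ m * ce.big y * (x * γ m)⁻¹ =
          x * ce.big (actS a' c' u' m y) * x⁻¹ := fun x => by rw [← i2]; group
      cases b with
      | true => exact ⟨(h1 _ i1).2.1, (e1 (ψ fA)).trans (t4 _ (h1 _ i1).1)⟩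
      | false =>
        refine ⟨(h1 _ i1).2.2, (e1 (φ fA)).trans ?_⟩
        rw [actS, map_mul, map_mul, map_inv, ce.big_one]
  have hγ : γ (m ++ m) = γ m * γ m := by simp [γ]
  have c1 := (key (m ++ m) a' (by simp [lstS])).2
  have c2 := (key (m ++ m) _ h3).2
  rw [h5, hγ, mul_inv_eq_iff_eq_mul] at c1
  rw [h6, hγ, mul_inv_eq_iff_eq_mul, ce.big_s] at c2
  have c3 := (key m y hy).2
  generalize γ m = g at c1 c2 c3
  have c4 : g * g * (g * g) = 1 := by
    obtain ⟨z, hz⟩ : ∃ z : MM, g * g = ce.big z := by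
      obtain ⟨z, h | h⟩ := ce.cent _ c2
      · exact ⟨(z, 1), by rw [h, ce.big_one]⟩
      · exact ⟨(z, -1), by rw [h, ce.big_neg]⟩
    rw [hz, ← map_mul, ← map_mul] at c1
    have c5 : z.1 * pA = pA * z.1 := h4 ▸ congrArg Prod.fst (ce.big_inj c1)
    rw [hz, ← map_mul, ← map_one ce.big]
    congr 1
    exact Prod.ext (cent_p _ c5) (Int.units_mul_self _)
  have c5 : g * g = 1 := h2 g 2 (by
    rw [show 2 ^ 2 = 2 * 2 from rfl, pow_mul, pow_two, pow_two, c4])
  have c6 : g * ce.big y * (g * ce.big y) = ce.big (actS a' c' u' m y * y) := by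
    rw [map_mul, ← c3, inv_eq_of_mul_eq_one_right c5, mul_assoc, mul_assoc, mul_assoc]
  have c7 := h2 (g * ce.big y) 2 (by
    rw [show 2 ^ 2 = 2 * 2 from rfl, pow_mul, pow_two (g * _), c6, ← map_pow, h8, map_one])
  rw [c6, map_eq_one_iff _ ce.big_inj] at c7
  exact h7 c7

theorem Conf.cases (h2 : CG.E2 G) {e a d : G} {φ ψ : A5 →* G} (h : Conf e a d φ ψ) :
    (a = φ pA ∧ ψ rA = a * e ∧ ψ qA = a * d) ∨ (a = φ pA * e ∧ ψ rA = e ∧ ψ qA = d) := by
  have ce := h.ce
  rcases h.ha with h1 | h1 <;> rcases h.hr with h3 | h3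
  · exfalso
    rcases h.hp with h4 | h4
    · exact bad_aux h2 ce h.ca (a' := (pA, 1)) (c' := (rA, 1)) (u' := (1, -1))
        (m := [true, false, true, false]) (by rw [ce.big_one, h1]) (by rw [ce.big_one, h4])
        (by rw [ce.big_s, h3.1]) (by decide +kernel)
    · exact bad_aux h2 ce h.ca (a' := (pA, 1)) (c' := (pA * rA, 1)) (u' := (1, -1))
        (m := [true, true, false, true, true, false]) (by rw [ce.big_one, h1])
        (by rw [ce.big_one, h4, h1, map_mul]) (by rw [ce.big_s, h3.1]) (by decide +kernel)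
  · exact Or.inl ⟨h1, h3⟩
  · exact Or.inr ⟨h1, h3⟩
  · exfalso
    have h5 : ψ rA = ce.big (pA, 1) := by rw [ce.big_one, h3.1, h1, mul_assoc, ce.ss, mul_one]
    have h6 : a = ce.big (pA, -1) := by rw [ce.big_neg, h1, ce.comm]
    rcases h.hp with h4 | h4
    · exact bad_aux h2 ce h.ca (c' := (rA, 1)) (m := [true, false]) h6 (by rw [ce.big_one, h4]) h5
        (by decide +kernel)
    · exact bad_aux h2 ce h.ca (c' := (pA * rA, -1)) (m := [true, false, true, false]) h6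
        (by rw [ce.big_neg, h4, h1, map_mul, ce.comm, mul_assoc]) h5 (by decide +kernel)

end CfsgLib.J1
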