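import Mathlib
import Cfsg.Agent.Lib.J1.Conf

/-! Groups of order `175560` whose involution centralizers are `2 × A₅`: the presentation. -/

set_option autoImplicit false

namespace CfsgLib.J1

open Subgroup Cfsg TC Cfsg.Spor

variable {G : Type*} [Group G]

theorem iso_of_rel [Finite G] [IsSimpleGroup G] (hc : Nat.card G = 175560) {g : ℕ → G}
    (hg : ∀ j, g j * g j = 1) (h7 : g 7 = 1) (hR : ∀ w ∈ relA [], ev g w = 1)
    (hgen : closure (g '' {j | j ∈ [1, 2, 3, 4, 5]}) = ⊤) : IsoJ1 G := by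
  let k : ℕ → G × GL (Fin 7) (ZMod 11) := fun j => (g j, gJ j)
  have hk : ∀ j, k j * k j = 1 := fun j => Prod.ext (hg j) (gJ_sq j)
  have hk7 : k 7 = 1 := Prod.ext h7 gJ_seven
  have hkR : ∀ w ∈ relA [], ev k w = 1 := fun w hw =>
    Prod.ext ((map_ev (g := k) (MonoidHom.fst G (GL (Fin 7) (ZMod 11))) w).trans (hR w hw))
      ((map_ev (g := k) (MonoidHom.snd G (GL (Fin 7) (ZMod 11))) w).trans (gJ_rel w hw))
  have h1 := card_le hk hk7 (ev_ext hk fun w hw => hkR w (by simp [relA, hw])) (H := ⊥) (by simp)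
    checkH
  have h2 := card_le hk hk7 (ev_ext hk hkR) (H := closure (k '' {j | j ∈ [1, 3, 4, 5]}))
    (fun j hj => subset_closure ⟨j, hj, rfl⟩) checkA0
  rw [card_bot] at h1
  set C := closure (k '' {j | j ∈ [1, 2, 3, 4, 5]}) with hC
  let p₁ : C →* G := (MonoidHom.fst _ _).comp C.subtype
  have s₁ : Function.Surjective p₁ := by
    rw [← MonoidHom.range_eq_top, eq_top_iff, ← hgen, closure_le]
    rintro _ ⟨j, hj, rfl⟩
    exact ⟨⟨k j, subset_closure ⟨j, hj, rfl⟩⟩, rfl⟩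
  have b₁ : Function.Bijective p₁ := s₁.bijective_of_nat_card_le (by omega)
  have hJ : C ≤ J1.comap (MonoidHom.snd _ _) := by
    rw [hC, closure_le]
    rintro _ ⟨j, -, rfl⟩
    exact gJ_mem j
  let p₂ : C →* J1 := ((MonoidHom.snd _ _).comp C.subtype).codRestrict _ fun x => hJ x.2
  have s₂ : Function.Surjective p₂ := by
    rintro ⟨y, hy⟩
    obtain ⟨x, hx⟩ := J1_le (H := ((MonoidHom.snd _ _).comp C.subtype).range)
      (fun j hj => ⟨⟨k j, subset_closure ⟨j, hj, rfl⟩⟩, rfl⟩) hy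
    exact ⟨x, Subtype.ext hx⟩
  let f : G →* J1 := p₂.comp (MulEquiv.ofBijective p₁ b₁).symm.toMonoidHom
  have hf : Function.Surjective f := s₂.comp (MulEquiv.ofBijective p₁ b₁).symm.surjective
  refine ⟨MulEquiv.ofBijective f ⟨?_, hf⟩⟩
  rw [← MonoidHom.ker_eq_bot_iff]
  refine (f.normal_ker.eq_bot_or_eq_top).resolve_right fun h => jankoX_ne_one ?_
  obtain ⟨x, hx⟩ := hf ⟨jankoX, subset_closure (by simp)⟩
  have : f x = 1 := h.ge (mem_top x)
  exact (congrArg Subtype.val hx).symm.trans (congrArg Subtype.val this)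

/-- the five involutions -/
def gens (e a d : G) (φ : A5 →* G) (j : ℕ) : G := [1, a, a * φ (pA * qA), φ rA, d, e].getD j 1

def conjW (u w : List ℕ) : List ℕ := u ++ w ++ u.reverse

theorem ev_conjW {g : ℕ → G} (hg : ∀ j, g j * g j = 1) (u w : List ℕ) :
    ev g (conjW u w) = ev g u * ev g w * (ev g u)⁻¹ := by
  rw [conjW, ev_append, ev_append, ev_reverse hg]

theorem conj_conj {g : ℕ → G} (hg : ∀ j, g j * g j = 1) {u v w₀ w₁ w₂ : List ℕ}
    (h1 : ev g (conjW v w₀) = ev g w₁) (h2 : ev g (conjW u w₁) = ev g w₂) :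
    ev g (u ++ v) * ev g w₀ * (ev g (u ++ v))⁻¹ = ev g w₂ := by
  rw [ev_conjW hg] at h1 h2
  rw [← h2, ← h1, ev_append]
  group

theorem exists_conjRel {e a : G} {φ ψ : A5 →* G} (ce : CI e φ) (ca : CI a ψ) {g : ℕ → G}
    (hg : ∀ j, g j * g j = 1) {u : List ℕ} (h1 : ev g u * e * (ev g u)⁻¹ = a)
    (h2 : ev g u * φ pA * (ev g u)⁻¹ = ψ pA) (h3 : ev g [1, 2] = φ (pA * qA)) {g₀ : ℕ → MM}
    (h4 : ∀ j ∈ [1, 3, 4, 5], g j = ca.big (g₀ j))
    (h5 : ev g₀ (conjW [] [4, 3]) = (pA * qA, 1)⁻¹ ∧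
      ev g₀ (conjW [3] [4, 3]) = (pA * (pA * qA) * pA, 1)⁻¹ ∧
      ev g₀ (conjW [5] [4, 3]) = (rA * (pA * qA) * rA, 1)⁻¹ ∧
      ev g₀ (conjW [3, 5] [4, 3]) = (pA * rA * (pA * qA) * (rA * pA), 1)⁻¹) :
    ev g (conjRel u []) = 1 ∨ ev g (conjRel u [3]) = 1 ∨ ev g (conjRel u [5]) = 1 ∨
      ev g (conjRel u [3, 5]) = 1 := by
  have key : ∀ (v : List ℕ) (y : A5), (∀ j ∈ conjW v [4, 3], j ∈ [1, 3, 4, 5]) →
      ev g₀ (conjW v [4, 3]) = (y, 1)⁻¹ → ev g u * φ (pA * qA) * (ev g u)⁻¹ = ψ y →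
      ev g (conjRel u v) = 1 := fun v y i1 i2 i3 => by
    have : conjRel u v = conjW u [1, 2] ++ conjW v [4, 3] := by simp [conjRel, conjW]
    rw [this, ev_append, ev_conjW hg, h3, i3, ca.ev_eq h4 i1, i2, map_inv, ca.big_one,
      mul_inv_cancel]
  generalize ev g u = γ at h1 h2 key
  obtain ⟨y, hy⟩ := ca.of_odd (g := γ * φ (pA * qA) * γ⁻¹) (by
    rw [← h1, conj_mul, conj_mul, ce.comm]) (by decide : Odd 3) (by
    rw [conj_pow, ← map_pow, show (pA * qA) ^ 3 = 1 by decide, map_one]; simp)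
  have k1 : y ^ 3 = 1 := ca.inj (by
    rw [map_pow, ← hy, conj_pow, ← map_pow, show (pA * qA) ^ 3 = 1 by decide]; simp)
  have k2 : y ≠ 1 := by
    rintro rfl
    rw [map_one, conj_eq_one_iff, map_eq_one_iff φ ce.inj] at hy
    exact absurd hy (by decide)
  have k3 : pA * y * pA * y = 1 := ca.inj (by
    rw [map_mul, map_mul, map_mul, ← hy, ← h2, conj_mul, conj_mul, conj_mul, ← map_mul, ← map_mul,
      ← map_mul, show pA * (pA * qA) * pA * (pA * qA) = 1 by decide]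
    simp)
  rcases inv_by_p y k1 k2 k3 with rfl | rfl | rfl | rfl
  · exact Or.inl (key _ _ (by decide) h5.1 hy)
  · exact Or.inr (Or.inl (key _ _ (by decide) h5.2.1 hy))
  · exact Or.inr (Or.inr (Or.inl (key _ _ (by decide) h5.2.2.1 hy)))
  · exact Or.inr (Or.inr (Or.inr (key _ _ (by decide) h5.2.2.2 hy)))

theorem gens_sq {e a d : G} {φ ψ : A5 →* G} (ce : CI e φ) (ca : CI a ψ) {gE gA : ℕ → MM}
    (hE : ∀ j ∈ [1, 2, 3, 5], gens e a d φ j = ce.big (gE j))
    (hA : ∀ j ∈ [1, 3, 4, 5], gens e a d φ j = ca.big (gA j))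
    (h : (∀ j ∈ [1, 2, 3, 5], gE j * gE j = 1) ∧ gA 4 * gA 4 = 1) (j : ℕ) :
    gens e a d φ j * gens e a d φ j = 1 := by
  by_cases h1 : j ∈ [1, 2, 3, 5]
  · rw [hE j h1, ← map_mul, h.1 j h1, map_one]
  match j, h1 with
  | 0, _ => exact one_mul 1
  | 1, h1 | 2, h1 | 3, h1 | 5, h1 => simp at h1
  | 4, _ => rw [hA 4 (by simp), ← map_mul, h.2, map_one]
  | _ + 6, _ => exact one_mul 1

theorem Conf.not_comm {e a d : G} {φ ψ : A5 →* G} (h : Conf e a d φ ψ) :
    gens e a d φ 2 ∉ centralizer {a} := fun hc => by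
  have h1 : a * φ (pA * qA) * a = a * (a * φ (pA * qA)) := mem_centralizer_singleton_iff.1 hc
  rw [mul_assoc, mul_left_cancel_iff] at h1
  have h2 : φ (pA * qA) * φ pA = φ pA * φ (pA * qA) := by
    rcases h.ha with rfl | rfl
    · exact h1
    · rw [h.ce.comm] at h1
      exact ((h.ce.comm_mul_iff _ (h.ce.comm _)).1 h1.symm).symm
  exact absurd (h.ce.comm_iff.1 h2) (by decide)

theorem Conf.mem_cent {e a d : G} {φ ψ : A5 →* G} (h : Conf e a d φ ψ) {gA : ℕ → MM}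
    (hA : ∀ j ∈ [1, 3, 4, 5], gens e a d φ j = h.ca.big (gA j)) :
    ∀ j ∈ [1, 3, 4, 5], gens e a d φ j ∈ centralizer {a} := fun j hj => by
  rw [mem_centralizer_singleton_iff, hA j hj]
  obtain ⟨y, u⟩ := gA j
  rcases Int.units_eq_one_or u with rfl | rfl
  · rw [h.ca.big_one, h.ca.comm]
  · rw [h.ca.big_neg, mul_assoc, h.ca.comm]

theorem Conf.bdbd {e a d : G} {φ ψ : A5 →* G} (h : Conf e a d φ ψ)
    (hg : ∀ j, gens e a d φ j * gens e a d φ j = 1) : ev (gens e a d φ) [2, 4, 2, 4] = 1 := by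
  have h1 : gens e a d φ 2 * gens e a d φ 4 = gens e a d φ 4 * gens e a d φ 2 := h.bd
  simp only [ev_cons, ev_nil, mul_one]
  rw [← mul_assoc (gens e a d φ 4), ← h1, mul_assoc, hg, mul_one, hg]

def gEB (j : ℕ) : MM := [1, (pA, -1), (qA, -1), (rA, 1), 1, (1, -1)].getD j 1
def gAB (j : ℕ) : MM := [1, (1, -1), 1, (pA, 1), (qA, 1), (rA, 1)].getD j 1
def gEA (j : ℕ) : MM := [1, (pA, 1), (qA, 1), (rA, 1), 1, (1, -1)].getD j 1
def gAA (j : ℕ) : MM := [1, (1, -1), 1, (pA, -1), (qA, -1), (rA, -1)].getD j 1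

theorem pA_mul : pA * (pA * qA) = qA := by decide

theorem Conf.caseB {e a d : G} {φ ψ : A5 →* G} (h : Conf e a d φ ψ) (h1 : a = φ pA * e)
    (h2 : ψ rA = e) (h3 : ψ qA = d) (h4 : ψ pA = φ rA) : False := by
  have ce := h.ce
  have ca := h.ca
  have hE : ∀ j ∈ [1, 2, 3, 5], gens e a d φ j = ce.big (gEB j) := by
    simp only [List.mem_cons, List.not_mem_nil, or_false, forall_eq_or_imp, forall_eq]
    refine ⟨h1.trans ((ce.comm _).trans (ce.big_neg _).symm), ?_, (ce.big_one _).symm,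
      ce.big_s.symm⟩
    change a * φ (pA * qA) = ce.big (qA, -1)
    rw [ce.big_neg, h1, ce.comm, mul_assoc, ← map_mul, pA_mul]
  have hA : ∀ j ∈ [1, 3, 4, 5], gens e a d φ j = ca.big (gAB j) := by
    simp only [List.mem_cons, List.not_mem_nil, or_false, forall_eq_or_imp, forall_eq]
    exact ⟨ca.big_s.symm, h4.symm.trans (ca.big_one _).symm, h3.symm.trans (ca.big_one _).symm,
      h2.symm.trans (ca.big_one _).symm⟩
  have hg := gens_sq ce ca hE hA (by decide)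
  have hR : ∀ v, ev (gens e a d φ) (conjRel (wF2 ++ wF1.reverse) v) = 1 →
      ∀ w ∈ ext (relB v), ev (gens e a d φ) w = 1 := fun v hv => ev_ext hg fun w hw => by
    simp only [relB, List.mem_append, List.mem_cons, List.not_mem_nil, or_false] at hw
    rcases hw with (hw | hw) | rfl | rfl
    · exact ce.ev_eq_ev hE (w' := []) (by revert w; decide +kernel)
    · exact ca.ev_eq_ev hA (w' := []) (by revert w; decide +kernel)
    · exact h.bdbd hg
    · exact hv
  have e5 : ev (gens e a d φ) [5] = e := mul_one _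
  have e1 : ev (gens e a d φ) [1] = a := mul_one _
  have e15 : ev (gens e a d φ) [1, 5] = φ pA := by
    rw [ce.ev_eq hE (by decide), ← ce.big_one]; congr 1
  have e3 : ev (gens e a d φ) [3] = ψ pA := (mul_one _).trans h4.symm
  rcases exists_conjRel ce ca hg (u := wF2 ++ wF1.reverse)
    (by
      have := conj_conj hg (u := wF2) (v := wF1.reverse) (w₀ := [5]) (w₁ := [3, 5]) (w₂ := [1])
        (ca.ev_eq_ev hA (by decide +kernel)) (ce.ev_eq_ev hE (by decide +kernel))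
      rwa [e5, e1] at this)
    (by
      have := conj_conj hg (u := wF2) (v := wF1.reverse) (w₀ := [1, 5]) (w₁ := [1, 3, 5])
        (w₂ := [3]) (ca.ev_eq_ev hA (by decide +kernel)) (ce.ev_eq_ev hE (by decide +kernel))
      rwa [e15, e3] at this)
    (by rw [ce.ev_eq hE (by decide), ← ce.big_one]; congr 1) hA (by decide +kernel)
    with hv | hv | hv | hv
  · exact h.not_comm (mem_of_check hg rfl (hR _ hv) (h.mem_cent hA) checkB0 rfl (by decide))
  · exact h.not_comm (mem_of_check hg rfl (hR _ hv) (h.mem_cent hA) checkB1 rfl (by decide))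
  · exact h.not_comm (mem_of_check hg rfl (hR _ hv) (h.mem_cent hA) checkB2 rfl (by decide))
  · exact h.not_comm (mem_of_check hg rfl (hR _ hv) (h.mem_cent hA) checkB3 rfl (by decide))

theorem Conf.caseA {e a d : G} {φ ψ : A5 →* G} (h : Conf e a d φ ψ) (h1 : a = φ pA)
    (h2 : ψ rA = a * e) (h3 : ψ qA = a * d) (h4 : ψ pA = a * φ rA) :
    (∀ j, gens e a d φ j * gens e a d φ j = 1) ∧ ∀ w ∈ relA [], ev (gens e a d φ) w = 1 := by
  have ce := h.ce
  have ca := h.ca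
  have hE : ∀ j ∈ [1, 2, 3, 5], gens e a d φ j = ce.big (gEA j) := by
    simp only [List.mem_cons, List.not_mem_nil, or_false, forall_eq_or_imp, forall_eq]
    refine ⟨h1.trans (ce.big_one _).symm, ?_, (ce.big_one _).symm, ce.big_s.symm⟩
    change a * φ (pA * qA) = ce.big (qA, 1)
    rw [ce.big_one, h1, ← map_mul, pA_mul]
  have hA : ∀ j ∈ [1, 3, 4, 5], gens e a d φ j = ca.big (gAA j) := by
    simp only [List.mem_cons, List.not_mem_nil, or_false, forall_eq_or_imp, forall_eq]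
    refine ⟨ca.big_s.symm, ?_, ?_, ?_⟩
    · change φ rA = ca.big (pA, -1)
      rw [ca.big_neg, h4, ca.ss']
    · change d = ca.big (qA, -1)
      rw [ca.big_neg, h3, ca.ss']
    · change e = ca.big (rA, -1)
      rw [ca.big_neg, h2, ca.ss']
  have hg := gens_sq ce ca hE hA (by decide)
  have hR : ∀ v, ev (gens e a d φ) (conjRel (wF2 ++ wF1) v) = 1 →
      ∀ w ∈ relA v, ev (gens e a d φ) w = 1 := fun v hv w hw => by
    simp only [relA, List.mem_append, List.mem_cons, List.not_mem_nil, or_false] at hw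
    rcases hw with (hw | hw) | rfl | rfl
    · exact ce.ev_eq_ev hE (w' := []) (by revert w; decide +kernel)
    · exact ca.ev_eq_ev hA (w' := []) (by revert w; decide +kernel)
    · exact h.bdbd hg
    · exact hv
  have e5 : ev (gens e a d φ) [5] = e := mul_one _
  have e1 : ev (gens e a d φ) [1] = a := mul_one _
  have e13 : ev (gens e a d φ) [1, 3] = ψ pA := by
    rw [ca.ev_eq hA (by decide), ← ca.big_one]; congr 1
  refine ⟨hg, ?_⟩
  rcases exists_conjRel ce ca hg (u := wF2 ++ wF1)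
    (by
      have := conj_conj hg (u := wF2) (v := wF1) (w₀ := [5]) (w₁ := [3]) (w₂ := [1])
        (ca.ev_eq_ev hA (by decide +kernel)) (ce.ev_eq_ev hE (by decide +kernel))
      rwa [e5, e1] at this)
    (by
      have := conj_conj hg (u := wF2) (v := wF1) (w₀ := [1]) (w₁ := [1])
        (w₂ := [1, 3]) (ca.ev_eq_ev hA (by decide +kernel)) (ce.ev_eq_ev hE (by decide +kernel))
      rwa [e13, e1.trans h1] at this)
    (by rw [ce.ev_eq hE (by decide), ← ce.big_one]; congr 1) hA (by decide +kernel)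
    with hv | hv | hv | hv
  · exact hR _ hv
  · exact absurd (mem_of_check hg rfl (ev_ext hg (hR _ hv)) (h.mem_cent hA) checkA1 rfl
      (by decide)) h.not_comm
  · exact absurd (mem_of_check hg rfl (ev_ext hg (hR _ hv)) (h.mem_cent hA) checkA2 rfl
      (by decide)) h.not_comm
  · exact absurd (mem_of_check hg rfl (ev_ext hg (hR _ hv)) (h.mem_cent hA) checkA3 rfl
      (by decide)) h.not_comm

theorem JH.exists_conf [Finite G] (hG : JH G) : ∃ (e a d : G) (φ ψ : A5 →* G), Conf e a d φ ψ ∧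
    a = φ pA ∧ ψ rA = a * e ∧ ψ qA = a * d ∧ ψ pA = a * φ rA := by
  obtain ⟨e, -, he1, he⟩ := Suz.exists_invol_of_even (A := (⊤ : Subgroup G)) (by
    rw [card_top, hG.card]; decide)
  obtain ⟨φ, ce⟩ := hG.ci e he he1
  obtain ⟨a, w, ha, h5, h1, hx, hwa, hwe⟩ := hG.exists_w ce
  have haa : a * a = 1 ∧ a ≠ 1 := by
    have hiu : SE.IsInv (φ pA) := ⟨by rw [← map_mul, map_eq_one_iff φ ce.inj]; decide,
      by rw [Ne, map_eq_one_iff φ ce.inj]; decide⟩
    rcases ha with rfl | rfl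
    · exact hiu
    · exact SE.isInv_mul hiu ⟨he, he1⟩ (ce.ne _) (ce.comm _)
  obtain ⟨ψ, ca⟩ := hG.ci a haa.1 haa.2
  obtain ⟨τ, d, hc⟩ := J1.exists_conf ce ca ha h5 h1 hx hwa hwe
  obtain ⟨σ, s1, s2, s3⟩ := exists_swap_aut
  have s4 : σ (pA * qA) = pA * qA := by rw [map_mul, s1, s2]
  have t1 : (φ.comp σ.toMonoidHom) pA = φ pA := congrArg φ s1
  have t3 : (φ.comp σ.toMonoidHom) rA = φ pA * φ rA := (congrArg φ s3).trans (map_mul _ _ _)
  have t4 : (φ.comp σ.toMonoidHom) (pA * qA) = φ (pA * qA) := congrArg φ s4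
  obtain ⟨τ', d', hc'⟩ := J1.exists_conf (ce.comp σ) ca (t1 ▸ ha) h5 h1 (t4 ▸ hx) hwa hwe
  have hne : ∀ y z : A5, ψ y ≠ a * ψ z := ca.ne_mul
  rcases hc.cases hG.e2 with ⟨k1, k2, k3⟩ | ⟨k1, k2, k3⟩
  · rcases hc.hp with k4 | k4
    · rcases hc'.cases hG.e2 with ⟨l1, l2, l3⟩ | ⟨l1, -⟩
      · refine ⟨e, a, d', _, _, hc', l1, l2, l3, hc'.hp.resolve_left fun l4 => ?_⟩
        rw [t3, ← k1, ← k4] at l4
        exact hne _ _ l4
      · rw [t1, ← k1] at l1
        exact absurd (left_eq_mul.1 l1) he1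
    · exact ⟨e, a, d, _, _, hc, k1, k2, k3, k4⟩
  · exfalso
    rcases hc.hp with k4 | k4
    · exact hc.caseB k1 k2 k3 k4
    · rcases hc'.cases hG.e2 with ⟨l1, -⟩ | ⟨l1, l2, l3⟩
      · rw [t1] at l1
        rw [l1] at k1
        exact absurd (left_eq_mul.1 k1) he1
      · refine hc'.caseB l1 l2 l3 (hc'.hp.resolve_right fun l4 => ?_)
        refine hne (τ' pA) (τ pA * τ rA) (l4.trans ?_)
        have k5 : ψ (τ pA) = a * φ rA := k4
        have k6 : ψ (τ rA) = e := k2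
        rw [t3, map_mul, k5, k6, k1, mul_assoc (φ pA) e (φ rA), ← ce.comm, ← mul_assoc (φ pA),
          mul_assoc (φ pA * φ rA), ce.ss, mul_one]

end CfsgLib.J1
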