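import Mathlib
import Cfsg.Agent.Lib.J1.Rel
import Cfsg.Agent.Lib.PermTwoPrimesA

/-! Simple groups of order `175560` whose involution centralizers are `2 × A₅` are `J₁`. -/

set_option autoImplicit false

namespace CfsgLib.J1

open Subgroup Cfsg TC Cfsg.Spor

variable {G : Type*} [Group G] [Finite G]

/-- parity of an involution on the cosets of a subgroup -/
theorem sign_dichotomy (M : Subgroup G) {t : G} (ht : t * t = 1) :
    (∃ K : Subgroup G, K.index = 2 ∧ t ∉ K) ∨
      4 ∣ M.index - {q : G ⧸ M | t • q = q}.ncard := by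
  classical
  have := Fintype.ofFinite (G ⧸ M)
  let σ := MulAction.toPermHom G (G ⧸ M)
  by_cases h : Equiv.Perm.sign (σ t) = 1
  · right
    have h1 := H4.four_dvd_card_support (t := σ t) (by rw [← map_pow, pow_two, ht, map_one]) h
    have h2 : {q : G ⧸ M | t • q = q} = ((σ t).supportᶜ : Finset _) := by
      ext q
      simp [σ]
    rw [h2, Set.ncard_coe_finset, Finset.card_compl, index_eq_card, Nat.card_eq_fintype_card,
      Nat.sub_sub_self (Finset.card_le_univ _)]
    exact h1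
  · left
    refine ⟨(Equiv.Perm.sign.comp σ).ker, ?_, h⟩
    rw [index_ker]
    have : (Equiv.Perm.sign.comp σ).range = ⊤ := by
      rw [eq_top_iff]
      intro u _
      rcases Int.units_eq_one_or u with rfl | rfl
      · exact one_mem _
      · exact ⟨t, (Int.units_eq_one_or _).resolve_left h⟩
    rw [this, card_top, Nat.card_eq_fintype_card, Fintype.card_units_int]

theorem smul_mk_eq_iff (M : Subgroup G) (t g : G) :
    t • (g : G ⧸ M) = g ↔ g⁻¹ * t * g ∈ M := by
  rw [MulAction.Quotient.smul_coe, eq_comm, QuotientGroup.eq, smul_eq_mul, mul_assoc]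

/-- Thompson's transfer lemma -/
theorem thompson_lemma {M : Subgroup G} (hM : M.index % 4 = 2) {t : G} (ht : t * t = 1) :
    (∃ K : Subgroup G, K.index = 2 ∧ t ∉ K) ∨ ∃ g : G, g⁻¹ * t * g ∈ M := by
  refine (sign_dichotomy M ht).imp id fun h => ?_
  by_contra h1
  have : {q : G ⧸ M | t • q = q} = ∅ := by
    refine Set.eq_empty_of_forall_notMem fun q hq => ?_
    obtain ⟨g, rfl⟩ := QuotientGroup.mk_surjective q
    exact h1 ⟨g, (smul_mk_eq_iff M t g).1 hq⟩
  rw [this, Set.ncard_empty] at h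
  omega

theorem index_ne_two [IsSimpleGroup G] (h : Nat.card G ≠ 2) (K : Subgroup G) : K.index ≠ 2 :=
  fun hK => by
    rcases (normal_of_index_eq_two hK).eq_bot_or_eq_top with rfl | rfl
    · exact h (index_bot.symm.trans hK)
    · simp at hK

omit [Finite G] in
theorem CI.range_big {s : G} {φ : A5 →* G} (h : CI s φ) : h.big.range = centralizer {s} := by
  ext g
  rw [mem_centralizer_singleton_iff]
  constructor
  · rintro ⟨⟨y, u⟩, rfl⟩
    rcases Int.units_eq_one_or u with rfl | rfl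
    · rw [h.big_one, h.comm]
    · rw [h.big_neg, mul_assoc, h.comm]
  · intro hg
    obtain ⟨y, rfl | rfl⟩ := h.cent g hg
    · exact ⟨_, h.big_one y⟩
    · exact ⟨_, h.big_neg y⟩

omit [Finite G] in
theorem CI.card_cent {s : G} {φ : A5 →* G} (h : CI s φ) :
    Nat.card (centralizer ({s} : Set G)) = 120 := by
  rw [← h.range_big, ← Nat.card_congr (MonoidHom.ofInjective h.big_inj).toEquiv, Nat.card_prod,
    Nat.card_eq_fintype_card, Nat.card_eq_fintype_card, Fintype.card_units_int]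
  decide +kernel

theorem inv_conj_p : ∀ y : A5, y * y = 1 → y ≠ 1 → ∃ g : A5, g * y * g⁻¹ = pA := by
  decide +kernel

theorem card_inv_MM : Fintype.card {y : MM // y * y = 1 ∧ y ≠ 1} = 31 := by decide +kernel

theorem eq_top_of_conj [IsSimpleGroup G] (hc : Nat.card G = 175560) {a : G} {ψ : A5 →* G}
    (ca : CI a ψ) {H : Subgroup G} (hH : centralizer {a} ≤ H)
    (h : ∀ s, s * s = 1 → s ≠ 1 → s * a = a * s → ∃ g ∈ H, g * s * g⁻¹ = a) : H = ⊤ := by
  have haH : a ∈ H := hH (mem_centralizer_singleton_iff.2 rfl)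
  have h1 : ∀ s ∈ H, s * s = 1 → s ≠ 1 → ∃ g ∈ H, g * s * g⁻¹ = a := fun s hs k1 k2 => by
    rcases Nat.even_or_odd (orderOf (s * a)) with k | k
    · obtain ⟨z, z1, z2, z3, z4⟩ := Suz.exists_comm_of_even k1 ca.ss k
      obtain ⟨g, hg, e⟩ := h z z2 z1 z4
      obtain ⟨g', hg', e'⟩ := h (g * s * g⁻¹) (Invol.conj_mul_self k1 g) (by simpa using k2)
        (by rw [← e, conj_mul, conj_mul, z3])
      exact ⟨g' * g, mul_mem hg' hg, by rw [← e']; group⟩
    · obtain ⟨c, hc, h3⟩ := Invol.exists_conj_eq_mul (Invol.inverts_mul k1 ca.ss) k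
      rw [← mul_assoc, k1, one_mul] at h3
      exact ⟨c, zpowers_le_of_mem (mul_mem hs haH) hc, h3⟩
  have h2 : {q : G ⧸ H | a • q = q} = {((1 : G) : G ⧸ H)} := by
    ext q
    obtain ⟨g, rfl⟩ := QuotientGroup.mk_surjective q
    rw [Set.mem_setOf_eq, smul_mk_eq_iff, Set.mem_singleton_iff, QuotientGroup.eq, mul_one,
      inv_mem_iff]
    refine ⟨fun hg => ?_, fun hg => mul_mem (mul_mem (inv_mem hg) haH) hg⟩
    obtain ⟨k, hk, e⟩ := h1 _ hg (by simpa using Invol.conj_mul_self ca.ss g⁻¹)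
      (fun e => ca.s_ne (by
        calc a = g * (g⁻¹ * a * g) * g⁻¹ := by group
          _ = 1 := by rw [e]; group))
    have : g * k⁻¹ ∈ H := hH (mem_centralizer_singleton_iff.2 (by
      calc g * k⁻¹ * a = g * k⁻¹ * (k * (g⁻¹ * a * g) * k⁻¹) := by rw [e]
        _ = _ := by group))
    simpa using mul_mem this hk
  have h3 := (sign_dichotomy H ca.ss).resolve_left fun ⟨K, hK, _⟩ =>
    index_ne_two (by omega) K hK
  rw [h2, Set.ncard_singleton] at h3
  have h4 : 31 ≤ (centralizer {a}).relIndex H := by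
    have key : ∀ y : {y : MM // y * y = 1 ∧ y ≠ 1}, ∃ g : H, (g : G) * a * (g : G)⁻¹ = ca.big y :=
      fun y => by
        obtain ⟨g, hg, e⟩ := h (ca.big y) (by rw [← map_mul, y.2.1, map_one])
          ((map_ne_one_iff _ ca.big_inj).2 y.2.2)
          (mem_centralizer_singleton_iff.1 (ca.range_big.le ⟨_, rfl⟩))
        refine ⟨⟨g⁻¹, inv_mem hg⟩, ?_⟩
        generalize ca.big y = w at e
        rw [← e]
        simp [mul_assoc]
    choose f hf using key
    rw [← card_inv_MM, ← Nat.card_eq_fintype_card, relIndex, index_eq_card]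
    refine Nat.card_le_card_of_injective (fun y => (f y : H ⧸ (centralizer {a}).subgroupOf H))
      fun y z e => Subtype.ext (ca.big_inj ?_)
    have e1 : ((f y : G)⁻¹ * f z) * a = a * ((f y : G)⁻¹ * f z) :=
      mem_centralizer_singleton_iff.1 (mem_subgroupOf.1 (QuotientGroup.eq.1 e))
    rw [← hf, ← hf]
    calc (f y : G) * a * (f y : G)⁻¹ = f y * (a * ((f y : G)⁻¹ * f z)) * (f z : G)⁻¹ := by group
      _ = _ := by rw [← e1]; group
  have h5 := relIndex_mul_index hH
  have h6 := (centralizer ({a} : Set G)).card_mul_index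
  rw [ca.card_cent, hc] at h6
  rw [← index_eq_one]
  generalize (centralizer {a}).relIndex H = n at h4 h5
  generalize H.index = m at h3 h5
  have h7 : n * m = 1463 := by omega
  have h8 : m < 48 := by nlinarith
  have h9 : m ∣ 1463 := Dvd.intro_left _ h7
  interval_cases m <;> omega

/-- **Uniqueness of `J₁`**, given the centralizers of involutions. -/
theorem JH.isoJ1 [IsSimpleGroup G] (hG : JH G) : IsoJ1 G := by
  obtain ⟨e, a, d, φ, ψ, h, h1, h2, h3, h4⟩ := hG.exists_conf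
  obtain ⟨hg, hR⟩ := h.caseA h1 h2 h3 h4
  refine iso_of_rel hG.card hg rfl hR ?_
  set H := closure (gens e a d φ '' {j | j ∈ [1, 2, 3, 4, 5]})
  have hm : ∀ j ∈ [1, 2, 3, 4, 5], gens e a d φ j ∈ H := fun j hj => subset_closure ⟨j, hj, rfl⟩
  have ha : a ∈ H := hm 1 (by simp)
  have hb : a * φ (pA * qA) ∈ H := hm 2 (by simp)
  have hc : φ rA ∈ H := hm 3 (by simp)
  have hφ : ∀ y, φ y ∈ H := mem_of_pqr (H := H.comap φ) (mem_comap.2 (h1 ▸ ha))
    (by rwa [h1, ← map_mul, pA_mul] at hb) hc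
  have hψ : ∀ y, ψ y ∈ H := mem_of_pqr (H := H.comap ψ) (mem_comap.2 (h4 ▸ mul_mem ha hc))
    (mem_comap.2 (h3 ▸ mul_mem ha (hm 4 (by simp)))) (mem_comap.2 (h2 ▸ mul_mem ha (hm 5 (by simp))))
  have hφ' : ∀ y : A5, y * y = 1 → y ≠ 1 → ∃ g ∈ H, g * φ y * g⁻¹ = a := fun y k1 k2 => by
    obtain ⟨g, e⟩ := inv_conj_p y k1 k2
    exact ⟨φ g, hφ g, by rw [← map_inv, ← map_mul, ← map_mul, e, h1]⟩
  refine eq_top_of_conj hG.card h.ca (fun g hg => ?_) fun s k1 k2 k3 => ?_
  · obtain ⟨y, rfl | rfl⟩ := h.ca.cent g (mem_centralizer_singleton_iff.1 hg)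
    · exact hψ y
    · exact mul_mem ha (hψ y)
  obtain ⟨y, rfl | rfl⟩ := h.ca.cent s k3
  · obtain ⟨g, e⟩ := inv_conj_p y (h.ca.inj (by rw [map_mul, k1, map_one])) (by
      rintro rfl; exact k2 (map_one _))
    obtain ⟨g', hg', e'⟩ := hφ' (pA * rA) (by decide) (by decide)
    refine ⟨g' * ψ g, mul_mem hg' (hψ g), ?_⟩
    rw [← e', map_mul, ← h1, ← h4, ← e, map_mul, map_mul, map_inv]
    group
  · by_cases hy : y = 1
    · exact ⟨1, one_mem _, by simp [hy]⟩
    obtain ⟨g, e⟩ := inv_conj_p y (h.ca.inj (by rw [← h.ca.sq_mul, k1, map_one])) hy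
    obtain ⟨g', hg', e'⟩ := hφ' rA (by decide) (by decide)
    refine ⟨g' * ψ g, mul_mem hg' (hψ g), ?_⟩
    have : ψ g * (a * ψ y) * (ψ g)⁻¹ = φ rA := by
      rw [← mul_assoc, h.ca.comm, mul_assoc a, mul_assoc a, ← map_inv, ← map_mul, ← map_mul, e, h4,
        h.ca.ss']
    calc _ = g' * (ψ g * (a * ψ y) * (ψ g)⁻¹) * g'⁻¹ := by group
      _ = a := by rw [this, e']

end CfsgLib.J1
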