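import Mathlib
import Cfsg.Agent.Lib.J1.Main
import Cfsg.Agent.Lib.H5Count
import Cfsg.Agent.Lib.SylowAction
import Cfsg.Agent.Lib.GW.Basic
import Cfsg.Agent.S4068

/-! Sylow subgroups of prime order: counting lemmas. -/

set_option autoImplicit false

namespace CfsgLib.J1

open Subgroup Cfsg SE

variable {G : Type*} [Group G]

/-- normalizer of a cyclic subgroup -/
abbrev NN (x : G) : Subgroup G := normalizer ((zpowers x : Subgroup G) : Set G)

/-- centralizer of an element -/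
abbrev CC (x : G) : Subgroup G := centralizer ({x} : Set G)

theorem mem_CC {x g : G} : g ∈ CC x ↔ g * x = x * g := mem_centralizer_singleton_iff

theorem CC_comm {x g : G} (h : g ∈ CC x) : x ∈ CC g := mem_CC.2 (mem_CC.1 h).symm

theorem self_CC (x : G) : x ∈ CC x := mem_CC.2 rfl

theorem CC_eq (x : G) : centralizer ((zpowers x : Subgroup G) : Set G) = CC x := by
  rw [zpowers_eq_closure, centralizer_closure]

theorem CC_le (x : G) : CC x ≤ NN x := CC_eq x ▸ centralizer_le_normalizer _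

theorem zpowers_conj (g x : G) :
    zpowers (g * x * g⁻¹) = (zpowers x).map (MulAut.conj g).toMonoidHom :=
  (MonoidHom.map_zpowers (MulAut.conj g).toMonoidHom x).symm

theorem orderOf_conj' (n w : G) : orderOf (n * w * n⁻¹) = orderOf w :=
  (MulAut.conj n).orderOf_eq w

theorem mem_NN_conj {x g y : G} : y ∈ NN (g * x * g⁻¹) ↔ g⁻¹ * y * g ∈ NN x := by
  rw [NN, zpowers_conj, ← map_normalizer_eq_of_bijective _ (MulAut.conj g).bijective,
    mem_map_conj_iff]

variable [Finite G]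

theorem mem_CC_conj {x g y : G} : y ∈ CC (g * x * g⁻¹) ↔ g⁻¹ * y * g ∈ CC x :=
  Cfsg.Agent.S4068.mem_cent_conj g x y

theorem conj_mem_CC {x g y : G} (hg : g ∈ NN x) (hy : y ∈ CC x) : g * y * g⁻¹ ∈ CC x := by
  rw [← CC_eq] at hy ⊢
  exact conj_mem_of_mem_normalizer (Cop.normalizer_le_normalizer_centralizer _ hg) hy

theorem mem_NN_of_eq {x g : G} (h : zpowers (g * x * g⁻¹) = zpowers x) : g ∈ NN x :=
  mem_normalizer_of_map_conj_eq (zpowers_conj g x ▸ h)

theorem card_CC_conj {x y : G} (h : IsConj x y) : Nat.card (CC y) = Nat.card (CC x) := by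
  obtain ⟨g, rfl⟩ := isConj_iff.1 h
  have : CC (g * x * g⁻¹) = (CC x).map (MulAut.conj g).toMonoidHom := by
    ext y
    rw [mem_CC_conj, mem_map_conj_iff]
  rw [this, card_map_conj]

theorem exists_mem_orderOf {H : Subgroup G} {p : ℕ} (hp : p.Prime) (h : p ∣ Nat.card H) :
    ∃ x ∈ H, orderOf x = p := by
  have := Fact.mk hp
  obtain ⟨x, hx⟩ := exists_prime_orderOf_dvd_card' p h
  exact ⟨x, x.2, by rw [orderOf_coe, hx]⟩

theorem exists_pow_orderOf {g : G} {p : ℕ} (h : p ∣ orderOf g) : ∃ k : ℕ, orderOf (g ^ k) = p :=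
  ⟨_, orderOf_pow_orderOf_div (orderOf_pos g).ne' h⟩

/-- an element generating a Sylow subgroup of prime order -/
structure PS (p : ℕ) (x : G) : Prop where
  prime : p.Prime
  ord : orderOf x = p
  sq : ¬ p ^ 2 ∣ Nat.card G

namespace PS
variable {p : ℕ} {x : G} (h : PS p x)
include h

theorem exists_sylow : ∃ P : Sylow p G, (P : Subgroup G) = zpowers x := by
  have := Fact.mk h.prime
  have h1 : IsPGroup p (zpowers x) := IsPGroup.of_card (n := 1) (by
    rw [Nat.card_zpowers, h.ord, pow_one])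
  refine ⟨h1.toSylow fun h2 => h.sq ?_, rfl⟩
  rw [← (zpowers x).card_mul_index, Nat.card_zpowers, h.ord, pow_two]
  exact Nat.mul_dvd_mul_left _ h2

omit [Finite G] in
theorem card_zp : Nat.card (zpowers x) = p := by rw [Nat.card_zpowers, h.ord]

theorem dvd_of_mem {y : G} (hy : y ∈ zpowers x) : orderOf y ∣ p :=
  h.card_zp ▸ (zpowers x).orderOf_dvd_natCard hy

theorem index_eq : (NN x).index = Nat.card (Sylow p G) := by
  have := Fact.mk h.prime
  obtain ⟨P, hP⟩ := h.exists_sylow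
  rw [P.card_eq_index_normalizer, NN, ← hP]
  rfl

theorem sub {H : Subgroup G} (hx : x ∈ H) : PS p (⟨x, hx⟩ : H) :=
  ⟨h.prime, by rw [← orderOf_coe]; exact h.ord, fun h1 => h.sq (h1.trans (card_subgroup_dvd_card H))⟩

theorem index_mod : (NN x).index % p = 1 := by
  have := Fact.mk h.prime
  rw [h.index_eq]
  exact Eq.trans (card_sylow_modEq_one p G) (Nat.mod_eq_of_lt h.prime.one_lt)

theorem relIndex_mod {H : Subgroup G} (hx : x ∈ H) : (NN x).relIndex H % p = 1 := by
  rw [← (h.sub hx).index_mod, relIndex, NN, subgroupOf_normalizer_eq (zpowers_le.2 hx)]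
  congr 4
  ext y
  simp only [SetLike.mem_coe, mem_subgroupOf, mem_zpowers_iff, Subtype.ext_iff, coe_zpow]

theorem dvd_pred : (CC x).relIndex (NN x) ∣ p - 1 := by
  have := H4.relIndex_centralizer_dvd_totient (zpowers x)
  rwa [Nat.card_zpowers, h.ord, Nat.totient_prime h.prime, CC_eq] at this

theorem dvd_CC : p ∣ Nat.card (CC x) := h.ord ▸ (CC x).orderOf_dvd_natCard (self_CC x)

theorem ne_one [IsSimpleGroup G] (hG : Nat.card G ≠ p) : (CC x).relIndex (NN x) ≠ 1 := fun e => by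
  have := Fact.mk h.prime
  obtain ⟨P, hP⟩ := h.exists_sylow
  have h0 : normalizer ((P : Subgroup G) : Set G) ≤ centralizer ((P : Subgroup G) : Set G) := by
    rw [hP, CC_eq]; exact relIndex_eq_one.1 e
  have h2 := (MonoidHom.ker_transferSylow_isComplement' P h0).card_mul
  rw [show Nat.card (P : Subgroup G) = p from hP ▸ h.card_zp] at h2
  rcases (MonoidHom.transferSylow P h0).normal_ker.eq_bot_or_eq_top with e | e <;> rw [e] at h2
  · rw [card_bot, one_mul] at h2
    exact hG h2.symm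
  · rw [card_top] at h2
    have := h.prime.one_lt
    have : 0 < Nat.card G := Nat.card_pos
    nlinarith

theorem exists_dvd_orderOf : ∃ g : G, (CC x).relIndex (NN x) ∣ orderOf g := by
  have := Fact.mk h.prime
  have h1 : IsCyclic (MulAut (zpowers x)) := by
    have : IsCyclic (ZMod (Nat.card (zpowers x)))ˣ := by
      rw [Nat.card_zpowers, h.ord]
      infer_instance
    exact isCyclic_of_surjective _ (IsCyclic.mulAutMulEquiv (zpowers x)).symm.surjective
  obtain ⟨γ, hg⟩ := IsCyclic.exists_generator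
    (α := (zpowers x).normalizerMonoidHom.range)
  obtain ⟨g, e⟩ := γ.2
  refine ⟨g, ?_⟩
  have h2 := orderOf_eq_card_of_forall_mem_zpowers hg
  rw [← index_ker, normalizerMonoidHom_ker, CC_eq, ← orderOf_coe, ← e] at h2
  rw [relIndex, ← h2, orderOf_coe]
  exact orderOf_map_dvd _ _

theorem zp_eq {y : G} (hy : orderOf y = p) (hN : y ∈ NN x) : zpowers y = zpowers x := by
  have := Fact.mk h.prime
  obtain ⟨P, hP⟩ := h.exists_sylow
  have h1 : IsPGroup p (zpowers y) := IsPGroup.of_card (n := 1) (by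
    rw [Nat.card_zpowers, hy, pow_one])
  refine eq_of_le_of_card_ge ?_ (by rw [Nat.card_zpowers, Nat.card_zpowers, hy, h.ord])
  rw [NN, ← hP] at hN
  rw [← hP]
  exact fun g hg => ((h1.inf_normalizer_sylow P).le ⟨hg, zpowers_le.2 hN hg⟩).2

/-- an involution normalizing but not centralizing `x` inverts it -/
theorem inverts {u : G} (hu : u * u = 1) (hN : u ∈ NN x) (hC : u ∉ CC x) :
    u * x * u⁻¹ = x⁻¹ := by
  have h1 : u * x * u⁻¹ ∈ zpowers x := conj_mem_of_mem_normalizer hN (mem_zpowers x)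
  have h2 : x * (u * x * u⁻¹) ∈ zpowers x := mul_mem (mem_zpowers x) h1
  have h3 : (u * x * u⁻¹) * x = x * (u * x * u⁻¹) := by
    obtain ⟨k, hk⟩ := h1
    rw [← hk]
    exact ((Commute.refl x).zpow_left k).eq
  by_contra h4
  have h5 : orderOf (x * (u * x * u⁻¹)) = p := by
    refine ((Nat.dvd_prime h.prime).1 (h.dvd_of_mem h2)).resolve_left fun e => h4 ?_
    exact eq_inv_of_mul_eq_one_right (orderOf_eq_one_iff.1 e)
  have h6 : u ∈ CC (x * (u * x * u⁻¹)) := mem_CC.2 (by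
    rw [← h3]
    conv_lhs => rw [h3]
    rw [Invol.inv_eq hu]
    calc u * (x * (u * x * u)) = u * x * u * x * u := by group
      _ = _ := by group)
  rw [← CC_eq, h.zp_eq h5 (le_normalizer h2), CC_eq] at h6
  exact hC h6

/-- elements of the centralizer of order divisible by `p` -/
theorem card_W : (p - 1) * Nat.card (CC x) ≤ p * {w | w ∈ CC x ∧ p ∣ orderOf w}.ncard := by
  have h1 : {w | w ∈ CC x ∧ ¬ p ∣ orderOf w}.ncard * p ≤ Nat.card (CC x) := by
    nth_rw 2 [← h.card_zp]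
    rw [← Nat.card_coe_set_eq, ← Nat.card_prod]
    refine Nat.card_le_card_of_injective (fun q => (⟨q.1 * q.2, mul_mem q.1.2.1
      (zpowers_le.2 (self_CC x) q.2.2)⟩ : CC x)) ?_
    rintro ⟨⟨a, ha, ha'⟩, y, hy⟩ ⟨⟨b, hb, hb'⟩, z, hz⟩ e
    have e1 : a * y = b * z := congrArg Subtype.val e
    have hc : ∀ c ∈ CC x, ∀ w ∈ zpowers x, Commute c w := fun c hc w hw => by
      obtain ⟨k, rfl⟩ := hw
      exact (show Commute c x from mem_CC.1 hc).zpow_right k
    have e2 : a = b * (z * y⁻¹) := by rw [← mul_assoc, ← e1]; group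
    have hw : z * y⁻¹ ∈ zpowers x := mul_mem hz (inv_mem hy)
    have e3 : z * y⁻¹ = 1 := by
      by_contra h3
      have h5 : orderOf (z * y⁻¹) = p := ((Nat.dvd_prime h.prime).1
        (h.dvd_of_mem hw)).resolve_left fun e => h3 (orderOf_eq_one_iff.1 e)
      refine ha' ?_
      rw [e2, (hc b hb _ hw).orderOf_mul_eq_mul_orderOf_of_coprime (by
        rw [h5]; exact ((Nat.Prime.coprime_iff_not_dvd h.prime).2 hb').symm), h5]
      exact dvd_mul_left _ _
    rw [e3, mul_one] at e2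
    subst e2
    rw [mul_inv_eq_one] at e3
    subst e3
    rfl
  have h2 : {w | w ∈ CC x ∧ p ∣ orderOf w}.ncard + {w | w ∈ CC x ∧ ¬ p ∣ orderOf w}.ncard =
      Nat.card (CC x) := by
    rw [← Set.ncard_union_eq (Set.disjoint_left.2 fun a h1 h2 => h2.2 h1.2), ← SetLike.coe_sort_coe,
      Nat.card_coe_set_eq]
    congr 1
    ext w
    simp only [Set.mem_union, Set.mem_setOf_eq, SetLike.mem_coe]
    tauto
  obtain ⟨q, rfl⟩ : ∃ q, p = q + 1 := ⟨p - 1, by have := h.prime.pos; omega⟩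
  rw [Nat.add_sub_cancel]
  nlinarith

theorem ncard_conj_W : {g | ∃ n, ∃ w ∈ {w | w ∈ CC x ∧ p ∣ orderOf w}, n * w * n⁻¹ = g}.ncard =
    (NN x).index * {w | w ∈ CC x ∧ p ∣ orderOf w}.ncard := by
  have ho := orderOf_conj' (G := G)
  refine H5.ncard_conj_of_TI_top _ _ (fun m hm s hs => ⟨conj_mem_CC hm hs.1, ho m s ▸ hs.2⟩)
    fun n s hs hn => ?_
  obtain ⟨k, hk⟩ := exists_pow_orderOf hs.2
  have e1 := h.zp_eq hk (CC_le x (pow_mem hs.1 k))
  have e2 := h.zp_eq ((ho n _).trans hk) (conj_pow (a := n) ▸ CC_le x (pow_mem hn.1 k))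
  refine mem_NN_of_eq ?_
  rw [zpowers_conj, ← e1, ← zpowers_conj, e2, e1]

/-- lower bound for the number of elements of order divisible by `p` -/
theorem card_E : (NN x).index * ((p - 1) * Nat.card (CC x)) ≤
    p * {g : G | p ∣ orderOf g}.ncard := by
  refine (Nat.mul_le_mul_left _ h.card_W).trans ?_
  rw [mul_left_comm, ← h.ncard_conj_W]
  refine Nat.mul_le_mul_left _ (Set.ncard_le_ncard ?_)
  rintro _ ⟨n, w, hw, rfl⟩
  exact hw.2.trans (orderOf_conj' n w).symm.dvd

end PS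

theorem sym {p r : ℕ} {x y : G} (hx : PS p x) (hy : PS r y) (hpr : p ≠ r) (hc : y ∈ CC x) :
    ∃ n n', (NN y).index * n = (NN x).index * n' ∧ n % p = 1 ∧ n' % r = 1 ∧
      n' * (p * r) ∣ Nat.card (NN x) ∧ n * (p * r) ∣ Nat.card (NN y) := by
  have h1 : p * r ∣ Nat.card (NN x ⊓ NN y : Subgroup G) := by
    rw [← hx.ord, ← hy.ord, ← (show Commute x y from (mem_CC.1 hc).symm
      ).orderOf_mul_eq_mul_orderOf_of_coprime (by
        rw [hx.ord, hy.ord]; exact (Nat.coprime_primes hx.prime hy.prime).2 hpr)]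
    exact (NN x ⊓ NN y).orderOf_dvd_natCard (mul_mem ⟨CC_le x (self_CC x), CC_le y (CC_comm hc)⟩
      ⟨CC_le x hc, CC_le y (self_CC y)⟩)
  refine ⟨(NN x).relIndex (NN y), (NN y).relIndex (NN x), ?_, hx.relIndex_mod (CC_le y (CC_comm hc)),
    hy.relIndex_mod (CC_le x hc), ?_, ?_⟩
  · rw [mul_comm, ← inf_relIndex_right, relIndex_mul_index inf_le_right, mul_comm,
      ← inf_relIndex_left, relIndex_mul_index inf_le_left]
  · rw [← ClassCount.card_mul_relIndex_inf (NN y) (NN x), mul_comm, inf_comm]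
    exact Nat.mul_dvd_mul_right h1 _
  · rw [← ClassCount.card_mul_relIndex_inf (NN x) (NN y), mul_comm]
    exact Nat.mul_dvd_mul_right h1 _

/-- the number of involutions inverting an element -/
noncomputable def nInv (x : G) : ℕ := {u : G | IsInv u ∧ u * x * u⁻¹ = x⁻¹}.ncard

omit [Finite G] in
theorem nInv_conj (n x : G) : nInv (n * x * n⁻¹) = nInv x := by
  rw [nInv, nInv, eq_comm, ← Set.ncard_image_of_injective _ (MulAut.conj n).injective, eq_comm]
  congr 1
  ext u
  constructor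
  · rintro ⟨h1, h2⟩
    refine ⟨n⁻¹ * u * n⁻¹⁻¹, ⟨h1.conj _, ?_⟩, by simp [mul_assoc]⟩
    calc _ = n⁻¹ * (u * (n * x * n⁻¹) * u⁻¹) * n := by group
      _ = _ := by rw [h2]; group
  · rintro ⟨u, ⟨h1, h2⟩, rfl⟩
    refine ⟨h1.conj _, ?_⟩
    change n * u * n⁻¹ * _ * (n * u * n⁻¹)⁻¹ = _
    rw [conj_inv, conj_inv, conj_mul, conj_mul, h2]

theorem le_nInv {u x τ : G} (hu : IsInv u) (h : u * τ * u⁻¹ = τ⁻¹) (hu' : u ∉ zpowers τ)
    (hx : x ∈ zpowers τ) : orderOf τ ≤ nInv x := by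
  rw [← Nat.card_zpowers, nInv, ← SetLike.coe_sort_coe, Nat.card_coe_set_eq,
    ← Set.ncard_image_of_injective _ (mul_right_injective u)]
  refine Set.ncard_le_ncard ?_
  rintro _ ⟨y, hy, rfl⟩
  refine ⟨⟨Invol.mul_mul_self hu.1 (Invol.inverts_of_mem_zpowers h hy), fun e => hu' ?_⟩, ?_⟩
  · rw [eq_inv_of_mul_eq_one_left e]
    exact inv_mem hy
  · have : y * x = x * y := by
      obtain ⟨k, rfl⟩ := hy
      obtain ⟨l, rfl⟩ := hx
      exact (Commute.zpow_zpow_self τ k l).eq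
    rw [← Invol.inverts_of_mem_zpowers h hx]
    calc _ = u * (y * x) * y⁻¹ * u⁻¹ := by group
      _ = _ := by rw [this]; group

theorem pairs {X : Set G} {r : ℕ} (h : ∀ x ∈ X, x * x ≠ 1 ∧ r ≤ nInv x) :
    X.ncard * r ≤ {u : G | IsInv u}.ncard ^ 2 := by
  have := Cfsg.Agent.S4068.double_count_le (G := G × G) ((fun x => (x, 1)) '' X)
    ({u : G | IsInv u} ×ˢ {u : G | IsInv u}) (fun a b => a = (b.1 * b.2, 1)) r 1 ?_ ?_
  · rwa [Set.ncard_image_of_injective _ (Prod.mk_left_injective 1), Set.ncard_prod, mul_one,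
      ← pow_two] at this
  · rintro _ ⟨x, hx, rfl⟩
    refine (h x hx).2.trans (Set.ncard_le_ncard_of_injOn (fun u => (u, u * x)) ?_
      fun a _ b _ e => congrArg Prod.fst e)
    rintro u ⟨h1, h2⟩
    refine ⟨⟨h1, Invol.mul_mul_self h1.1 h2, fun e => (h x hx).1 ?_⟩, by simp [h1.mul_mul]⟩
    rw [eq_inv_of_mul_eq_one_right e, h1.inv_eq, h1.1]
  · intro b _
    exact (Set.ncard_le_one_iff_subsingleton).2 fun a ha c hc => ha.2.trans hc.2.symm

end CfsgLib.J1
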