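import Mathlib
import Cfsg.Agent.Lib.J1.Syl
import Cfsg.Agent.Lib.Blk.BS

/-! Simple groups of order `175560`: involutions. -/

set_option autoImplicit false

namespace CfsgLib.J1

open Subgroup Cfsg SE

variable {G : Type*} [Group G] [Finite G]

theorem exists_between {p n m : ℕ} [Fact p.Prime] {H N : Subgroup G} (h : H ≤ N)
    (hH : Nat.card H = p ^ n) (hN : p ^ m ∣ Nat.card N) (hnm : n ≤ m) :
    ∃ K : Subgroup G, H ≤ K ∧ K ≤ N ∧ Nat.card K = p ^ m := by
  obtain ⟨K, h1, h2⟩ := Sylow.exists_subgroup_card_pow_prime_le p hN (H.subgroupOf N)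
    ((Nat.card_congr (subgroupOfEquivOfLe h).toEquiv).trans hH) hnm
  refine ⟨K.map N.subtype, ?_, map_subtype_le _, ?_⟩
  · rw [← map_subgroupOf_eq_of_le h]
    exact map_mono h2
  · rw [card_map_of_injective N.subtype_injective, h1]

theorem four_dvd_inf {N : Subgroup G} {u : G} (hu : IsInv u) (h : u ∈ N) (h4 : 4 ∣ Nat.card N) :
    4 ∣ Nat.card (N ⊓ CC u : Subgroup G) := by
  obtain ⟨K, h1, h2, h3⟩ := exists_between (p := 2) (n := 1) (m := 2) (zpowers_le.2 h)
    hu.card_zpowers h4 (by norm_num)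
  have := IsPGroup.isMulCommutative_of_card_eq_prime_sq h3
  have h5 : K ≤ N ⊓ CC u := le_inf h2 fun g hg => mem_CC.2
    (PGrp.isMulCommutative_iff_forall.1 this g hg u (h1 (mem_zpowers u)))
  exact (show 4 = Nat.card K from h3.symm) ▸ card_dvd_of_le h5

omit [Finite G] in
theorem four_of {u v : G} (hu : IsInv u) (hv : IsInv v) (hc : u * v = v * u) (hne : u ≠ v) :
    GW.Four u v := ⟨hu.orderOf, hv.orderOf, hc, hne⟩

theorem eq_sq_of_mem {x w : G} (hx : orderOf x = 4) (hw : w ∈ zpowers x) (h : IsInv w) :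
    w = x * x := by
  classical
  rw [mem_zpowers_iff_mem_range_orderOf, hx] at hw
  obtain ⟨k, hk, rfl⟩ := Finset.mem_image.1 hw
  have h1 : 4 ∣ k + k := hx ▸ orderOf_dvd_of_pow_eq_one (by rw [pow_add, h.1])
  rw [Finset.mem_range] at hk
  have : k = 0 ∨ k = 2 := by omega
  rcases this with rfl | rfl
  · exact absurd (pow_zero x) h.2
  · exact pow_two x

variable [IsSimpleGroup G] (hc : Nat.card G = 175560)
include hc

theorem idx {H : Subgroup G} (h : H ≠ ⊤) : 19 ≤ H.index := by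
  have h1 : H.normalCore.index ∣ H.index.factorial := by
    rw [normalCore_eq_ker, index_ker, index_eq_card, ← Nat.card_perm]
    exact card_subgroup_dvd_card _
  rw [H.normalCore_normal.eq_bot_or_eq_top.resolve_right
    fun e => h (top_le_iff.1 (e ▸ H.normalCore_le)), index_bot, hc] at h1
  exact (Nat.Prime.dvd_factorial (by norm_num)).1 ((by norm_num : 19 ∣ 175560).trans h1)

theorem NN_ne_top {x : G} (h1 : x ≠ 1) (h2 : orderOf x ≠ 175560) : NN x ≠ ⊤ := fun h => by
  rcases (normalizer_eq_top_iff.1 h).eq_bot_or_eq_top with e | e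
  · exact h1 (zpowers_eq_bot.1 e)
  · exact h2 (by rw [← Nat.card_zpowers, e, card_top, hc])

theorem idx_CC {t : G} (ht : IsInv t) : 19 ≤ (CC t).index :=
  idx hc fun h => NN_ne_top hc ht.2 (by rw [ht.orderOf]; norm_num) (top_le_iff.1 (h ▸ CC_le t))

theorem conj_into {M : Subgroup G} (hM : Nat.card M = 4) {w : G} (hw : IsInv w) :
    ∃ v ∈ M, IsInv v ∧ IsConj w v := by
  have h1 := M.card_mul_index
  rw [hM, hc] at h1
  obtain ⟨g, hg⟩ := (thompson_lemma (M := M) (by omega) hw.1).resolve_left fun ⟨K, hK, _⟩ =>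
    index_ne_two (by omega) K hK
  exact ⟨_, hg, by simpa using hw.conj g⁻¹, isConj_iff.2 ⟨g⁻¹, by rw [inv_inv]⟩⟩

theorem exists_eight {H N : Subgroup G} {n : ℕ} (h : H ≤ N) (hH : Nat.card H = 2 ^ n)
    (hN : 8 ∣ Nat.card N) : ∃ S : Subgroup G, H ≤ S ∧ S ≤ N ∧ Nat.card S = 8 := by
  refine exists_between (p := 2) (m := 3) h hH hN ?_
  by_contra h1
  have := (pow_dvd_pow 2 (by omega : 4 ≤ n)).trans (hH ▸ card_subgroup_dvd_card H)
  rw [hc] at this
  norm_num at this

theorem isConj_inv {u v : G} (hu : IsInv u) (hv : IsInv v) : IsConj u v := by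
  by_cases h4 : ∃ x : G, orderOf x = 4
  · obtain ⟨x, hx⟩ := h4
    have key : ∀ w, IsInv w → IsConj w (x * x) := fun w hw => by
      obtain ⟨v, h1, h2, h3⟩ := conj_into hc (M := zpowers x) (by rw [Nat.card_zpowers, hx]) hw
      exact eq_sq_of_mem hx h1 h2 ▸ h3
    exact (key u hu).trans (key v hv).symm
  obtain ⟨S, -, -, hS⟩ := exists_eight hc (n := 0) (bot_le (a := ⊤)) card_bot
    (by rw [card_top, hc]; norm_num)
  have hsq : ∀ x ∈ S, x * x = 1 := fun x hx => by
    have h1 := S.orderOf_dvd_natCard hx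
    rw [hS] at h1
    obtain ⟨k, hk, e⟩ := (Nat.dvd_prime_pow Nat.prime_two (m := 3)).1 h1
    rw [← pow_two, ← orderOf_dvd_iff_pow_eq_one, e]
    by_contra h2
    refine h4 ⟨_, (exists_pow_orderOf (g := x) (p := 4) ?_).choose_spec⟩
    rw [e]
    interval_cases k <;> simp_all
  have hcm : ∀ x ∈ S, ∀ y ∈ S, x * y = y * x := fun x hx y hy => by
    rw [← Invol.inv_eq (hsq _ (mul_mem hx hy)), mul_inv_rev, Invol.inv_eq (hsq x hx),
      Invol.inv_eq (hsq y hy)]
  have hex : ∀ K : Subgroup G, Nat.card K < 8 → ∃ x ∈ S, x ∉ K := fun K hK =>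
    SetLike.not_le_iff_exists.1 fun h => by have := card_le_of_le h; omega
  obtain ⟨a, ha, a1⟩ := hex ⊥ (by simp)
  have ia : IsInv a := ⟨hsq a ha, a1⟩
  obtain ⟨b, hb, b1⟩ := hex (zpowers a) (by rw [ia.card_zpowers]; norm_num)
  have ib : IsInv b := ⟨hsq b hb, fun e => b1 (e ▸ one_mem _)⟩
  have ab : a ≠ b := fun e => b1 (e ▸ mem_zpowers a)
  have f := four_of ia ib (hcm a ha b hb) ab
  obtain ⟨c, hc', c1⟩ := hex (GW.V a b) (by rw [f.card_V]; norm_num)
  rw [f.mem_V] at c1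
  push Not at c1
  obtain ⟨c1, ca, cb, cab⟩ := c1
  have ic : IsInv c := ⟨hsq c hc', c1⟩
  have iab := isInv_mul ia ib ab (hcm a ha b hb)
  have iac := isInv_mul ia ic ca.symm (hcm a ha c hc')
  have ibc := isInv_mul ib ic cb.symm (hcm b hb c hc')
  have line : ∀ x ∈ S, ∀ y ∈ S, IsInv x → IsInv y → x ≠ y → ∀ z, x * y = z → ∀ w, IsInv w →
      IsConj w x ∨ IsConj w y ∨ IsConj w z := fun x hx y hy ix iy xy z e w hw => by
    have f := four_of ix iy (hcm x hx y hy) xy
    obtain ⟨v, h1, h2, h3⟩ := conj_into hc f.card_V hw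
    rcases f.mem_V.1 h1 with rfl | rfl | rfl | rfl
    · exact absurd rfl h2.2
    · exact Or.inl h3
    · exact Or.inr (Or.inl h3)
    · exact Or.inr (Or.inr (e ▸ h3))
  have l1 := line a ha b hb ia ib ab _ rfl
  have l2 := line a ha c hc' ia ic ca.symm _ rfl
  have l3 := line b hb c hc' ib ic cb.symm _ rfl
  have l4 := line a ha _ (mul_mem hb hc') ia ibc (fun e => cab (by
    rw [hcm a ha b hb, e, ib.mul_mul])) _ rfl
  have l5 := line b hb _ (mul_mem ha hc') ib iac (fun e => cab (by rw [e, ia.mul_mul]))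
    (a * (b * c)) (by rw [← mul_assoc, ← hcm a ha b hb, mul_assoc])
  have l6 := line _ (mul_mem ha hb) c hc' iab ic cab.symm _ (mul_assoc _ _ _)
  have l7 := line _ (mul_mem ha hb) _ (mul_mem ha hc') iab iac
    (fun e => cb (mul_left_cancel e).symm) (b * c) (by rw [hcm a ha b hb, mul_assoc, ia.mul_mul])
  by_contra hne
  have k : ∀ z, IsConj u z → ¬ IsConj v z := fun z h1 h2 => hne (h1.trans h2.symm)
  have u1 := l1 u hu; have u2 := l2 u hu; have u3 := l3 u hu; have u4 := l4 u hu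
  have u5 := l5 u hu; have u6 := l6 u hu; have u7 := l7 u hu
  have v1 := l1 v hv; have v2 := l2 v hv; have v3 := l3 v hv; have v4 := l4 v hv
  have v5 := l5 v hv; have v6 := l6 v hv; have v7 := l7 v hv
  have k1 := k a; have k2 := k b; have k3 := k c; have k4 := k (a * b); have k5 := k (a * c)
  have k6 := k (b * c); have k7 := k (a * (b * c))
  clear k l1 l2 l3 l4 l5 l6 l7 line
  grind

theorem card_CC_eq {u v : G} (hu : IsInv u) (hv : IsInv v) : Nat.card (CC u) = Nat.card (CC v) :=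
  card_CC_conj (isConj_inv hc hv hu)

theorem ncard_inv {t : G} (ht : IsInv t) : {u : G | IsInv u}.ncard = (CC t).index := by
  rw [ClassCount.index_centralizer_eq_ncard]
  congr 1
  ext u
  refine ⟨isConj_inv hc ht, fun h => ?_⟩
  obtain ⟨g, rfl⟩ := isConj_iff.1 h
  exact ht.conj g

theorem eight_dvd {t : G} (ht : IsInv t) : 8 ∣ Nat.card (CC t) := by
  obtain ⟨S, -, -, hS⟩ := exists_eight hc (n := 0) (bot_le (a := ⊤)) card_bot
    (by rw [card_top, hc]; norm_num)
  have h1 : IsPGroup 2 S := IsPGroup.of_card (n := 3) hS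
  have : Nontrivial S := Finite.one_lt_card_iff_nontrivial.1 (by omega)
  have := h1.center_nontrivial
  obtain ⟨k, hk, e⟩ := (h1.to_subgroup (center S)).nontrivial_iff_card.1 this
  obtain ⟨z, hz, z1, z2⟩ := Suz.exists_invol_of_even (A := center S) (by
    rw [e]; exact (Nat.even_pow' hk.ne').2 even_two)
  have iz : IsInv (z : G) := ⟨congrArg Subtype.val z2, fun e => z1 (Subtype.ext e)⟩
  rw [card_CC_eq hc ht iz, ← hS]
  exact card_dvd_of_le fun g hg => mem_CC.2 (congrArg Subtype.val (mem_center_iff.1 hz ⟨g, hg⟩))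

theorem exists_comm_inv {t : G} (ht : IsInv t) : ∃ s, IsInv s ∧ s ≠ t ∧ s ∈ CC t := by
  by_contra h
  push Not at h
  have h1 := Blk.brauer_suzuki G t ⟨ht.orderOf, fun s h1 h2 => by
    by_contra h3
    push Not at h3
    exact h s ⟨by rw [← pow_two, h1], h3.1⟩ h3.2 (mem_CC.2 h2)⟩
  have h2 : pPrimeCore 2 G = ⊥ := (pPrimeCore_normal 2 G).eq_bot_or_eq_top.resolve_right fun e => by
    have := pPrimeCore_coprime (p := 2) (G := G)
    rw [e, card_top, hc] at this
    norm_num at this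
  have h3 := idx_CC hc ht
  rw [(eq_top_iff' _).2 fun g => mem_CC.2 (by
    have := h1 g
    rwa [h2, mem_bot, mul_inv_eq_one, mul_inv_eq_iff_eq_mul] at this), index_top] at h3
  omega

end CfsgLib.J1
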