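import Mathlib
import Cfsg.Agent.Lib.J1.Ord1

/-! Simple groups of order `175560`: Sylow normalizers. -/

set_option autoImplicit false

namespace CfsgLib.J1

open Subgroup Cfsg SE

variable {G : Type*} [Group G] [Finite G]

theorem PS.exists_comm {p r : ℕ} {x : G} (h : PS p x) (hr : r.Prime) (h1 : r ∣ Nat.card (NN x))
    (h2 : ¬ r ∣ p - 1) : ∃ y ∈ CC x, orderOf y = r := by
  rw [← card_mul_relIndex (CC_le x), hr.dvd_mul] at h1
  exact exists_mem_orderOf hr (h1.resolve_right fun h3 => h2 (h3.trans h.dvd_pred))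

theorem dvd_CC_of_mem {x y : G} {p : ℕ} (hx : orderOf x = p) (h : y ∈ CC x) :
    p ∣ Nat.card (CC y) := hx ▸ (CC y).orderOf_dvd_natCard (CC_comm h)

theorem PS.darg {p : ℕ} {x u : G} (h : PS p x) (hp : p ≠ 2) (hu : IsInv u) (hc : x ∈ CC u) :
    ∃ d n, d * n = Nat.card (CC u) ∧ n % p = 1 ∧ 2 * p ∣ d ∧ d ∣ Nat.card (NN x) ∧
      (4 ∣ Nat.card (NN x) → 4 ∣ d) := by
  refine ⟨_, _, ClassCount.card_mul_relIndex_inf (NN x) (CC u), h.relIndex_mod hc, ?_,
    card_dvd_of_le inf_le_left, four_dvd_inf hu (CC_le x (CC_comm hc))⟩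
  refine ((Nat.coprime_primes Nat.prime_two h.prime).2 hp.symm).mul_dvd_of_dvd_of_dvd ?_ ?_
  · rw [← hu.orderOf]
    exact (NN x ⊓ CC u).orderOf_dvd_natCard ⟨CC_le x (CC_comm hc), self_CC u⟩
  · rw [← h.ord]
    exact (NN x ⊓ CC u).orderOf_dvd_natCard ⟨CC_le x (self_CC x), hc⟩

theorem PS.ncard_conj_zp {p : ℕ} {x : G} (h : PS p x) :
    {g | ∃ n, ∃ w ∈ (zpowers x : Set G) \ (⊥ : Subgroup G), n * w * n⁻¹ = g}.ncard =
      (NN x).index * (p - 1) := by
  have ho : ∀ w ∈ (zpowers x : Set G) \ (⊥ : Subgroup G), zpowers w = zpowers x := fun w hw =>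
    h.zp_eq (((Nat.dvd_prime h.prime).1 (h.dvd_of_mem hw.1)).resolve_left
      fun e => hw.2 (orderOf_eq_one_iff.1 e)) (le_normalizer hw.1)
  rw [H5.ncard_conj_of_TI_top (NN x) ((zpowers x : Set G) \ (⊥ : Subgroup G))
    (fun m hm s hs => ⟨conj_mem_of_mem_normalizer hm hs.1, by simpa using hs.2⟩) fun n s hs hn => mem_NN_of_eq (by
      rw [zpowers_conj, ← ho s hs, ← zpowers_conj, ho _ hn, ho s hs]),
    H5.ncard_diff_subgroup bot_le, h.card_zp, card_bot]

/-- the elements of order divisible by `p` -/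
def EE (G : Type*) [Group G] (p : ℕ) : Set G := {g | p ∣ orderOf g}

theorem EE_disj {p q : ℕ} (h : ∀ x : G, orderOf x = p → ¬ q ∣ Nat.card (CC x)) :
    Disjoint (EE G p) (EE G q) := Set.disjoint_left.2 fun g h1 h2 => by
  obtain ⟨k, hk⟩ := exists_pow_orderOf h1
  exact h _ hk (h2.trans ((CC _).orderOf_dvd_natCard (mem_CC.2 (Commute.self_pow g k).eq)))

theorem ncard_three {A B C : Set G} (h1 : Disjoint A B) (h2 : Disjoint A C) (h3 : Disjoint B C) :
    A.ncard + B.ncard + C.ncard ≤ Nat.card G := by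
  rw [← Set.ncard_union_eq h1, ← Set.ncard_union_eq (Set.disjoint_union_left.2 ⟨h2, h3⟩),
    ← Set.ncard_univ]
  exact Set.ncard_le_ncard (Set.subset_univ _)

variable [IsSimpleGroup G] (hc : Nat.card G = 175560)
include hc

omit [Finite G] [IsSimpleGroup G] in
theorem ps {p : ℕ} {x : G} (hx : orderOf x = p) (hp : p.Prime := by norm_num)
    (h : ¬ p ^ 2 ∣ 175560 := by norm_num) : PS p x := ⟨hp, hx, hc ▸ h⟩

omit [IsSimpleGroup G] in
theorem exists_ord {p : ℕ} (hp : p.Prime := by norm_num) (h : p ∣ 175560 := by norm_num) :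
    ∃ x : G, orderOf x = p := by
  have := Fact.mk hp
  exact exists_prime_orderOf_dvd_card' p (hc ▸ h)

theorem PS.data {p : ℕ} {x : G} (h : PS p x) : ∃ e, e = (CC x).relIndex (NN x) ∧
    Nat.card (NN x) * (NN x).index = 175560 ∧
    Nat.card (CC x) * e = Nat.card (NN x) ∧ e ∣ p - 1 ∧ e ≠ 1 ∧ p ∣ Nat.card (CC x) ∧
      (NN x).index % p = 1 ∧ 19 ≤ (NN x).index := by
  have h1 : p ≠ 175560 := fun e => by have := h.prime; rw [e] at this; norm_num at this
  exact ⟨_, rfl, hc ▸ card_mul_index _, card_mul_relIndex (CC_le x), h.dvd_pred,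
    h.ne_one (hc ▸ h1.symm), h.dvd_CC, h.index_mod, idx hc (NN_ne_top hc
      (fun e => h.prime.one_lt.ne (by rw [← h.ord, e, orderOf_one])) (h.ord ▸ h1))⟩

theorem odd_CC {p : ℕ} {x t : G} (hx : orderOf x = p) (ht : IsInv t) (h : ¬ p ∣ Nat.card (CC t)) :
    ¬ 2 ∣ Nat.card (CC x) := fun h2 => by
  obtain ⟨u, hu, h3, h4⟩ := Suz.exists_invol_of_even (even_iff_two_dvd.2 h2)
  exact h (card_CC_eq hc ⟨h4, h3⟩ ht ▸ dvd_CC_of_mem hx hu)

theorem PS.pairs {p : ℕ} {x t : G} (h : PS p x) (hp : p ≠ 2) (ht : IsInv t)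
    (h1 : ¬ p ∣ Nat.card (CC t)) (h2 : 2 ∣ Nat.card (NN x)) :
    (NN x).index * (p - 1) * p ≤ (CC t).index ^ 2 := by
  obtain ⟨u, hu, h3, h4⟩ := Suz.exists_invol_of_even (even_iff_two_dvd.2 h2)
  have h5 : u ∉ CC x := fun h5 => h1 (card_CC_eq hc ⟨h4, h3⟩ ht ▸ dvd_CC_of_mem h.ord h5)
  rw [← h.ncard_conj_zp, ← ncard_inv hc ht]
  refine J1.pairs ?_
  rintro _ ⟨n, w, hw, rfl⟩
  rw [nInv_conj, conj_mul, Ne, conj_eq_one_iff, ← h.ord]
  refine ⟨fun e => hw.2 (Invol.eq_one_of_odd ((h.prime.odd_of_ne_two hp).of_dvd_nat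
    (h.dvd_of_mem hw.1)) e), le_nInv ⟨h4, h3⟩ (h.inverts h4 hu h5)
      (fun h6 => h5 (zpowers_le.2 (self_CC x) h6)) hw.1⟩

theorem dvd_c {g t : G} {r : ℕ} (ht : IsInv t) (h : 2 * r ∣ orderOf g) : r ∣ Nat.card (CC t) := by
  obtain ⟨k, hk⟩ := exists_pow_orderOf ((dvd_mul_right 2 r).trans h)
  have hu : IsInv (g ^ k) := ⟨by rw [← pow_two, ← hk, pow_orderOf_eq_one],
    fun e => by rw [e, orderOf_one] at hk; omega⟩
  rw [card_CC_eq hc ht hu]
  exact ((dvd_mul_left r 2).trans h).trans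
    ((CC _).orderOf_dvd_natCard (mem_CC.2 (Commute.self_pow g k).eq))

theorem cm (t : G) : Nat.card (CC t) * (CC t).index = 175560 := hc ▸ card_mul_index _

theorem n19 {x : G} (hx : orderOf x = 19) : (NN x).index = 1540 := by
  have h := ps hc hx
  obtain ⟨e, -, d1, d2, d3, d4, ⟨k, d5⟩, d6, d7⟩ := h.data hc
  have h1 : (NN x).index ∣ 9240 := Dvd.intro_left (k * e) (by rw [← d2, d5] at d1; linarith)
  have h2 : (NN x).index = 20 ∨ (NN x).index = 77 ∨ (NN x).index = 210 ∨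
      (NN x).index = 1540 := by
    have := (by decide +kernel : ∀ j < 487, 19 * j + 1 ∣ 9240 →
      j = 0 ∨ j = 1 ∨ j = 4 ∨ j = 11 ∨ j = 81) ((NN x).index / 19)
      (by have := Nat.le_of_dvd (by norm_num) h1; omega)
      (by rwa [show 19 * ((NN x).index / 19) + 1 = (NN x).index by omega])
    omega
  rcases h2 with h2 | h2 | h2 | h2
  · rw [h2] at d1
    obtain ⟨y, hy, hy'⟩ := h.exists_comm (r := 11) (by norm_num) (by omega) (by norm_num)
    obtain ⟨-, -, -, -, -, -, -, b6, b7⟩ := (ps hc hy').data hc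
    obtain ⟨n, n', s1, s2, s3, s4, -⟩ := sym h (ps hc hy') (by norm_num) hy
    rw [show Nat.card (NN x) = 42 * (19 * 11) by omega, Nat.mul_dvd_mul_iff_right (by norm_num)] at s4
    have := Nat.le_of_dvd (by norm_num) s4
    obtain rfl : n' = 1 := by interval_cases n' <;> omega
    have : (NN y).index ≤ 20 := Nat.le_of_dvd (by norm_num) ⟨n, by omega⟩
    omega
  · rw [h2] at d1
    obtain ⟨y, hy, hy'⟩ := h.exists_comm (r := 5) (by norm_num) (by omega) (by norm_num)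
    obtain ⟨-, -, -, -, -, -, -, b6, b7⟩ := (ps hc hy').data hc
    obtain ⟨n, n', s1, s2, s3, s4, -⟩ := sym h (ps hc hy') (by norm_num) hy
    rw [show Nat.card (NN x) = 24 * (19 * 5) by omega, Nat.mul_dvd_mul_iff_right (by norm_num)] at s4
    have := Nat.le_of_dvd (by norm_num) s4
    have h3 : n' = 1 ∨ n' = 6 := by interval_cases n' <;> omega
    rw [h2] at s1
    have h4 : 19 * n ≤ (NN y).index * n := Nat.mul_le_mul_right _ b7
    have h5 : n = 1 ∨ n = 20 := by omega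
    rcases h5 with rfl | rfl <;> omega
  · rw [h2] at d1
    have := Nat.le_of_dvd (by norm_num) d3
    obtain ⟨u, hu, h3, h4⟩ := Suz.exists_invol_of_even (A := CC x) (by
      rw [even_iff_two_dvd]; interval_cases e <;> omega)
    obtain ⟨d, n, a1, a2, ⟨j, a3⟩, a4, a5⟩ := h.darg (by norm_num) ⟨h4, h3⟩ (CC_comm hu)
    have a6 := eight_dvd hc ⟨h4, h3⟩
    have a7 := idx_CC hc ⟨h4, h3⟩
    have a8 := cm hc u
    rw [show Nat.card (NN x) = 38 * 22 by omega] at a4 a5
    rw [a3, Nat.mul_dvd_mul_iff_left (by norm_num)] at a4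
    have := Nat.le_of_dvd (by norm_num) a4
    have a9 : d = 76 ∨ d = 836 := by interval_cases j <;> omega
    rw [← a1] at a6 a8
    have h5 : d * n * 19 ≤ d * n * (CC u).index := Nat.mul_le_mul_left _ a7
    rcases a9 with rfl | rfl
    · have : n = 20 ∨ n = 58 ∨ n = 96 := by omega
      rcases this with rfl | rfl | rfl <;> omega
    · omega
  · exact h2

theorem N19 {x : G} (hx : orderOf x = 19) : Nat.card (NN x) = 114 := by
  have := hc ▸ (NN x).card_mul_index
  rw [n19 hc hx] at this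
  omega

theorem C19 {x : G} (hx : orderOf x = 19) : Nat.card (CC x) ∣ 114 :=
  N19 hc hx ▸ card_dvd_of_le (CC_le x)

omit hc [IsSimpleGroup G] in
theorem PS.not_dvd {p r k : ℕ} {x : G} (h : PS p x) (hr : r.Prime) (h2 : ¬ r ∣ p - 1)
    (h3 : ∀ y : G, orderOf y = r → Nat.card (CC y) ∣ k) (h4 : ¬ p ∣ k) :
    ¬ r ∣ Nat.card (NN x) := fun h1 => by
  obtain ⟨y, hy, hy'⟩ := h.exists_comm hr h1 h2
  exact h4 ((dvd_CC_of_mem h.ord hy).trans (h3 y hy'))

theorem n11' {x : G} (hx : orderOf x = 11) : (NN x).index = 133 ∨ (NN x).index = 1596 := by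
  have h := ps hc hx
  obtain ⟨e, -, d1, d2, d3, d4, ⟨k, d5⟩, d6, d7⟩ := h.data hc
  obtain ⟨j, hj⟩ := ((Nat.Prime.dvd_mul (by norm_num)).1 (d1 ▸ (by norm_num : 19 ∣ 175560))
    ).resolve_left (h.not_dvd (by norm_num) (by norm_num) (fun _ => C19 hc) (by norm_num))
  have h1 : j ∣ 840 := Dvd.intro_left (k * e) (by rw [← d2, d5, hj] at d1; linarith)
  have := (by decide +kernel : ∀ j < 841, j ∣ 840 → 19 * j % 11 = 1 → j = 7 ∨ j = 40 ∨ j = 84) j
    (by have := Nat.le_of_dvd (by norm_num) h1; omega) h1 (hj ▸ d6)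
  rcases this with rfl | rfl | rfl
  · exact Or.inl hj
  · rw [hj] at d1
    have := Nat.le_of_dvd (by norm_num) d3
    interval_cases e <;> omega
  · exact Or.inr hj

theorem C11' {x : G} (hx : orderOf x = 11) : Nat.card (CC x) ∣ 1320 := by
  refine (card_dvd_of_le (CC_le x)).trans ?_
  have := hc ▸ (NN x).card_mul_index
  rcases n11' hc hx with h | h <;> rw [h] at this
  · rw [show Nat.card (NN x) = 1320 by omega]
  · rw [show Nat.card (NN x) = 110 by omega]; norm_num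

theorem n7' {x : G} (hx : orderOf x = 7) : (NN x).index = 4180 ∨ (NN x).index = 1254 := by
  have h := ps hc hx
  obtain ⟨e, -, d1, d2, d3, d4, ⟨k, d5⟩, d6, d7⟩ := h.data hc
  have a1 := ((Nat.Prime.dvd_mul (by norm_num)).1 (d1 ▸ (by norm_num : 19 ∣ 175560))
    ).resolve_left (h.not_dvd (by norm_num) (by norm_num) (fun _ => C19 hc) (by norm_num))
  have a2 := ((Nat.Prime.dvd_mul (by norm_num)).1 (d1 ▸ (by norm_num : 11 ∣ 175560))
    ).resolve_left (h.not_dvd (by norm_num) (by norm_num) (fun _ => C11' hc) (by norm_num))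
  obtain ⟨j, hj⟩ : 209 ∣ (NN x).index := by omega
  have h1 : j ∣ 120 := Dvd.intro_left (k * e) (by rw [← d2, d5, hj] at d1; linarith)
  have := (by decide +kernel : ∀ j < 121, j ∣ 120 → 209 * j % 7 = 1 → j = 20 ∨ j = 6) j
    (by have := Nat.le_of_dvd (by norm_num) h1; omega) h1 (hj ▸ d6)
  omega

theorem n7_of {x t : G} (hx : orderOf x = 7) (ht : IsInv t) (h7 : ¬ 7 ∣ Nat.card (CC t)) :
    (NN x).index = 4180 := (n7' hc hx).resolve_right fun h => by
  obtain ⟨e, -, d1, d2, d3, d4, -⟩ := (ps hc hx).data hc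
  have := odd_CC hc hx ht h7
  rw [h] at d1
  have := Nat.le_of_dvd (by norm_num) d3
  interval_cases e <;> omega

theorem no19 {t : G} (ht : IsInv t) : ¬ 19 ∣ Nat.card (CC t) := fun h => by
  obtain ⟨x, hx, hx'⟩ := exists_mem_orderOf (by norm_num) h
  obtain ⟨d, n, a1, a2, ⟨j, a3⟩, a4, -⟩ := (ps hc hx').darg (by norm_num) ht hx
  have a6 := eight_dvd hc ht
  have a7 := idx_CC hc ht
  have a8 := cm hc t
  rw [N19 hc hx', a3, show 114 = 2 * 19 * 3 from rfl, Nat.mul_dvd_mul_iff_left (by norm_num)] at a4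
  have := Nat.le_of_dvd (by norm_num) a4
  have a9 : d = 38 ∨ d = 114 := by interval_cases j <;> omega
  have h5 : Nat.card (CC t) * 19 ≤ Nat.card (CC t) * (CC t).index := Nat.mul_le_mul_left _ a7
  have h6 : Nat.card (CC t) = 760 ∨ Nat.card (CC t) = 2280 := by
    rcases a9 with rfl | rfl
    · have : n = 20 ∨ n = 96 ∨ n = 172 := by omega
      rcases this with rfl | rfl | rfl
      · omega
      all_goals rw [← a1] at a8; omega
    · omega
  obtain ⟨y, hy⟩ := exists_ord hc (p := 7)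
  have h7 : ¬ 7 ∣ Nat.card (CC t) := by omega
  have h8 := n7_of hc hy ht h7
  have h9 := hc ▸ (NN y).card_mul_index
  rw [h8] at h9
  have := (ps hc hy).pairs hc (by norm_num) ht h7 (by omega)
  rw [h8] at this
  rcases h6 with h6 | h6 <;> rw [h6] at a8
  · rw [show (CC t).index = 231 by omega] at this; omega
  · rw [show (CC t).index = 77 by omega] at this; omega

theorem c_le {t : G} (ht : IsInv t) : Nat.card (CC t) ≤ 241 := by
  obtain ⟨x, hx⟩ := exists_ord hc (p := 19)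
  have := (ps hc hx).pairs hc (by norm_num) ht (no19 hc ht) (by rw [N19 hc hx]; norm_num)
  rw [n19 hc hx] at this
  have a8 := cm hc t
  have : 726 ≤ (CC t).index := by nlinarith
  nlinarith

theorem C3_of {x y : G} (hx : orderOf x = 19) (h : 3 ∣ Nat.card (CC x)) (hy : orderOf y = 3) :
    Nat.card (CC y) = 57 := by
  obtain ⟨z, hz, hz'⟩ := exists_mem_orderOf (by norm_num) h
  obtain ⟨n, n', s1, s2, s3, s4, -⟩ := sym (ps hc hx) (ps hc hz') (by norm_num) hz
  rw [N19 hc hx, show 114 = 2 * (19 * 3) from rfl, Nat.mul_dvd_mul_iff_right (by norm_num)] at s4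
  have := Nat.le_of_dvd (by norm_num) s4
  obtain rfl : n' = 1 := by omega
  obtain ⟨e, -, d1, d2, d3, d4, -, d6, d7⟩ := (ps hc hy).data hc
  rw [n19 hc hx, (ps hc hz').index_eq, ← (ps hc hy).index_eq] at s1
  have h4 : 19 * n ≤ (NN y).index * n := Nat.mul_le_mul_right _ d7
  have h5 : n = 1 ∨ n = 20 ∨ n = 39 ∨ n = 58 ∨ n = 77 := by omega
  have h6 : (NN y).index = 1540 := by rcases h5 with rfl | rfl | rfl | rfl | rfl <;> omega
  rw [h6] at d1
  have := Nat.le_of_dvd (by norm_num) d3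
  interval_cases e <;> omega

theorem three_dvd_of {x t : G} (hx : orderOf x = 19) (h : ¬ 3 ∣ Nat.card (CC x)) (ht : IsInv t) :
    Nat.card (CC x) = 19 ∧ 3 ∣ Nat.card (CC t) := by
  obtain ⟨e, d0, -, d2, d3, d4, ⟨k, d5⟩, -⟩ := (ps hc hx).data hc
  have := odd_CC hc hx ht (no19 hc ht)
  rw [N19 hc hx] at d2
  have := Nat.le_of_dvd (by norm_num) d3
  obtain rfl : e = 6 := by interval_cases e <;> omega
  obtain ⟨g, hg⟩ := (ps hc hx).exists_dvd_orderOf
  exact ⟨by omega, dvd_c hc ht (d0 ▸ hg)⟩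

omit [IsSimpleGroup G] in
theorem exists_inv : ∃ t : G, IsInv t := by
  obtain ⟨t, -, h1, h2⟩ := Suz.exists_invol_of_even (A := (⊤ : Subgroup G)) (by
    rw [card_top, hc]; decide)
  exact ⟨t, h2, h1⟩

theorem n11 {x : G} (hx : orderOf x = 11) : (NN x).index = 1596 :=
  (n11' hc hx).resolve_left fun h => by
    obtain ⟨e, -, d1, d2, d3, d4, -⟩ := (ps hc hx).data hc
    obtain ⟨t, ht⟩ := exists_inv hc
    rw [h] at d1
    have := Nat.le_of_dvd (by norm_num) d3
    have h1 : 2 ∣ Nat.card (CC x) ∧ 3 ∣ Nat.card (CC x) := by interval_cases e <;> omega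
    have h2 : 11 ∣ Nat.card (CC t) := by_contra fun h2 => odd_CC hc hx ht h2 h1.1
    have h3 := eight_dvd hc ht
    have h4 := c_le hc ht
    obtain ⟨y, hy, hy'⟩ := exists_mem_orderOf (by norm_num) h1.2
    obtain ⟨z, hz⟩ := exists_ord hc (p := 19)
    have h5 := (three_dvd_of hc hz (fun h5 => by
      have := dvd_CC_of_mem hx hy
      rw [C3_of hc hz h5 hy'] at this
      omega) ht).2
    have : 0 < Nat.card (CC t) := Nat.card_pos
    omega

theorem N11 {x : G} (hx : orderOf x = 11) : Nat.card (NN x) = 110 := by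
  have := hc ▸ (NN x).card_mul_index
  rw [n11 hc hx] at this
  omega

theorem no11 {t : G} (ht : IsInv t) : ¬ 11 ∣ Nat.card (CC t) := fun h => by
  obtain ⟨x, hx, hx'⟩ := exists_mem_orderOf (by norm_num) h
  obtain ⟨d, n, a1, a2, ⟨j, a3⟩, a4, -⟩ := (ps hc hx').darg (by norm_num) ht hx
  have a6 := eight_dvd hc ht
  have a7 := c_le hc ht
  rw [N11 hc hx', a3, show 110 = 2 * 11 * 5 from rfl, Nat.mul_dvd_mul_iff_left (by norm_num)] at a4
  have := Nat.le_of_dvd (by norm_num) a4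
  have a9 : d = 22 ∨ d = 110 := by interval_cases j <;> omega
  rcases a9 with rfl | rfl <;> omega

theorem C11 {x : G} (hx : orderOf x = 11) :
    Nat.card (CC x) = 11 ∧ ∀ t : G, IsInv t → 5 ∣ Nat.card (CC t) := by
  obtain ⟨e, d0, -, d2, d3, d4, ⟨k, d5⟩, -⟩ := (ps hc hx).data hc
  obtain ⟨t, ht⟩ := exists_inv hc
  have := odd_CC hc hx ht (no11 hc ht)
  rw [N11 hc hx] at d2
  have := Nat.le_of_dvd (by norm_num) d3
  have h1 : e = 10 ∨ e = 2 := by interval_cases e <;> omega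
  rcases h1 with rfl | rfl
  · obtain ⟨g, hg⟩ := (ps hc hx).exists_dvd_orderOf
    exact ⟨by omega, fun t ht => dvd_c hc ht (d0 ▸ hg)⟩
  exfalso
  have e11 := (ps hc hx).card_E
  rw [n11 hc hx, show Nat.card (CC x) = 55 by omega] at e11
  have f11 : ∀ q, ¬ q ∣ 110 → Disjoint (EE G 11) (EE G q) := fun q hq => EE_disj fun y hy h =>
    hq (h.trans (N11 hc hy ▸ card_dvd_of_le (CC_le y)))
  have f19 : Disjoint (EE G 19) (EE G 7) := EE_disj fun y hy h => by
    have := h.trans (C19 hc hy); omega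
  have h3 := ncard_three (f11 19 (by norm_num)) (f11 7 (by norm_num)) f19
  obtain ⟨y, hy⟩ := exists_ord hc (p := 19)
  obtain ⟨z, hz⟩ := exists_ord hc (p := 7)
  obtain ⟨w, hw⟩ := exists_ord hc (p := 3)
  have b19 : ∀ y : G, orderOf y = 19 → 27720 ≤ (EE G 19).ncard ∧
      (3 ∣ Nat.card (CC y) → 83160 ≤ (EE G 19).ncard) := fun y hy => by
    have e19 := (ps hc hy).card_E
    obtain ⟨j, hj⟩ := (ps hc hy).dvd_CC
    have : 0 < Nat.card (CC y) := Nat.card_pos
    rw [n19 hc hy] at e19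
    change _ ≤ 19 * (EE G 19).ncard at e19
    omega
  have b7 : ∀ y : G, orderOf y = 7 → 25080 ≤ (EE G 7).ncard ∧
      (3 ∣ Nat.card (CC y) → 75240 ≤ (EE G 7).ncard) := fun y hy => by
    have e7 := (ps hc hy).card_E
    obtain ⟨e, -, d1, d2, d3, d4, ⟨j, hj⟩, -⟩ := (ps hc hy).data hc
    have := Nat.le_of_dvd (by norm_num) d3
    change _ ≤ 7 * (EE G 7).ncard at e7
    rcases n7' hc hy with h | h <;> rw [h] at e7 d1 <;> interval_cases e <;> omega
  change _ ≤ 11 * (EE G 11).ncard at e11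
  by_cases h4 : ∃ y : G, orderOf y = 19 ∧ 3 ∣ Nat.card (CC y)
  · obtain ⟨y, h4, h5⟩ := h4
    have := (b19 y h4).2 h5
    have := (b7 z hz).1
    omega
  by_cases h5 : ∃ y : G, orderOf y = 7 ∧ 3 ∣ Nat.card (CC y)
  · obtain ⟨z, h5, h6⟩ := h5
    have := (b7 z h5).2 h6
    have := (b19 y hy).1
    omega
  push Not at h4 h5
  have h6 := ncard_three (Set.disjoint_union_left.2 ⟨f11 7 (by norm_num), f19⟩)
    (Set.disjoint_union_left.2 ⟨f11 3 (by norm_num), EE_disj h4⟩) (EE_disj h5)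
  rw [Set.ncard_union_eq (f11 19 (by norm_num))] at h6
  have e3 := (ps hc hw).card_E
  obtain ⟨e, -, d1, d2, d3, d4, -⟩ := (ps hc hw).data hc
  have := Nat.le_of_dvd (by norm_num) d3
  obtain rfl : e = 2 := by interval_cases e <;> omega
  change _ ≤ 3 * (EE G 3).ncard at e3
  rw [mul_comm (3 - 1), d2, mul_comm, d1] at e3
  have := (b7 z hz).1
  have := (b19 y hy).1
  omega

theorem c_cases {t : G} (ht : IsInv t) : Nat.card (CC t) = 40 ∨ Nat.card (CC t) = 120 := by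
  obtain ⟨x, hx⟩ := exists_ord hc (p := 11)
  have h1 := (C11 hc hx).2 t ht
  have h2 := eight_dvd hc ht
  have h3 := c_le hc ht
  have h4 := cm hc t
  obtain ⟨j, hj⟩ : 40 ∣ Nat.card (CC t) := by omega
  have : j ≤ 6 := by omega
  rw [hj] at h4 ⊢
  interval_cases j <;> omega

theorem C7' {x t : G} (hx : orderOf x = 7) (ht : IsInv t) : (NN x).index = 4180 ∧
    ((Nat.card (CC x) = 7 ∧ 3 ∣ Nat.card (CC t)) ∨ Nat.card (CC x) = 21) := by
  have h1 : ¬ 7 ∣ Nat.card (CC t) := by have := c_cases hc ht; omega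
  have h2 := n7_of hc hx ht h1
  obtain ⟨e, d0, d1, d2, d3, d4, ⟨k, d5⟩, -⟩ := (ps hc hx).data hc
  have := odd_CC hc hx ht h1
  rw [h2] at d1
  have := Nat.le_of_dvd (by norm_num) d3
  have h3 : e = 6 ∨ e = 2 := by interval_cases e <;> omega
  refine ⟨h2, h3.imp ?_ ?_⟩ <;> rintro rfl
  · obtain ⟨g, hg⟩ := (ps hc hx).exists_dvd_orderOf
    exact ⟨by omega, dvd_c hc ht (d0 ▸ hg)⟩
  · omega

theorem C19' {x t : G} (hx : orderOf x = 19) (ht : IsInv t) :
    Nat.card (CC x) = 19 ∧ 3 ∣ Nat.card (CC t) := three_dvd_of hc hx (fun h => by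
  obtain ⟨z, hz⟩ := exists_ord hc (p := 7)
  rcases (C7' hc hz ht).2 with h1 | h1
  · obtain ⟨y, hy, hy'⟩ := exists_mem_orderOf (by norm_num) h1.2
    have := dvd_CC_of_mem ht.orderOf hy
    rw [C3_of hc hx h hy'] at this
    omega
  · obtain ⟨y, hy, hy'⟩ := exists_mem_orderOf (p := 3) (H := CC z) (by norm_num) (by omega)
    have := dvd_CC_of_mem hz hy
    rw [C3_of hc hx h hy'] at this
    omega) ht

theorem card_CC_inv {t : G} (ht : IsInv t) : Nat.card (CC t) = 120 := by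
  obtain ⟨x, hx⟩ := exists_ord hc (p := 19)
  have := (C19' hc hx ht).2
  have := c_cases hc ht
  omega

theorem index_35 {r : ℕ} {y : G} (h : PS r y) (hr : r = 3 ∨ r = 5) : 209 ∣ (NN y).index := by
  obtain ⟨t, ht⟩ := exists_inv hc
  have d1 := hc ▸ (NN y).card_mul_index
  have a1 := ((Nat.Prime.dvd_mul (by norm_num)).1 (d1 ▸ (by norm_num : 19 ∣ 175560))
    ).resolve_left (h.not_dvd (by norm_num) (by rcases hr with rfl | rfl <;> norm_num)
      (fun _ h => (C19' hc h ht).1.dvd) (by rcases hr with rfl | rfl <;> norm_num))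
  have a2 := ((Nat.Prime.dvd_mul (by norm_num)).1 (d1 ▸ (by norm_num : 11 ∣ 175560))
    ).resolve_left (h.not_dvd (by norm_num) (by rcases hr with rfl | rfl <;> norm_num)
      (fun _ h => (C11 hc h).1.dvd) (by rcases hr with rfl | rfl <;> norm_num))
  omega

theorem C7 {x : G} (hx : orderOf x = 7) : Nat.card (CC x) = 7 := by
  obtain ⟨t, ht⟩ := exists_inv hc
  obtain ⟨h1, h2 | h2⟩ := C7' hc hx ht
  · exact h2.1
  exfalso
  obtain ⟨z, hz, hz'⟩ := exists_mem_orderOf (p := 3) (H := CC x) (by norm_num) (by omega)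
  obtain ⟨y, hy, hy'⟩ := exists_mem_orderOf (p := 3) (H := CC t) (by norm_num)
    (by rw [card_CC_inv hc ht]; norm_num)
  obtain ⟨n, n', s1, s2, s3, s4, -⟩ := sym (ps hc hx) (ps hc hz') (by norm_num) hz
  have d := hc ▸ (NN x).card_mul_index
  rw [h1] at d s1
  rw [show Nat.card (NN x) = 2 * (7 * 3) by omega, Nat.mul_dvd_mul_iff_right (by norm_num)] at s4
  have := Nat.le_of_dvd (by norm_num) s4
  obtain rfl : n' = 1 := by omega
  rw [(ps hc hz').index_eq, ← (ps hc hy').index_eq] at s1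
  obtain ⟨e, -, d1, d2, d3, d4, -⟩ := (ps hc hy').data hc
  obtain ⟨j, hj⟩ := index_35 hc (ps hc hy') (Or.inl rfl)
  have h3 : n ∣ 20 := Dvd.intro_left j (by rw [hj] at s1; linarith)
  have := Nat.le_of_dvd (by norm_num) h3
  obtain rfl : n = 1 := by interval_cases n <;> omega
  rw [show (NN y).index = 4180 by omega] at d1
  have := dvd_CC_of_mem ht.orderOf hy
  have := Nat.le_of_dvd (by norm_num) d3
  interval_cases e <;> omega

theorem NN_eq {r : ℕ} {y t : G} (h : PS r y) (hr : r = 3 ∨ r = 5) (ht : IsInv t)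
    (hle : CC t ≤ NN y) : CC t = NN y := by
  refine eq_of_le_of_card_ge hle ?_
  have d1 := hc ▸ (NN y).card_mul_index
  have a1 := ((Nat.Prime.dvd_mul (by norm_num)).1 (d1 ▸ (by norm_num : 7 ∣ 175560))
    ).resolve_left (h.not_dvd (by norm_num) (by rcases hr with rfl | rfl <;> norm_num)
      (fun _ h => (C7 hc h).dvd) (by rcases hr with rfl | rfl <;> norm_num))
  obtain ⟨j, hj⟩ : 1463 ∣ (NN y).index := by have := index_35 hc h hr; omega
  rw [card_CC_inv hc ht]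
  exact Nat.le_of_dvd (by norm_num) (Dvd.intro j (by rw [hj] at d1; linarith))

end CfsgLib.J1
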