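import Mathlib
import Cfsg.Agent.Lib.J1.Ord2
import Cfsg.Agent.Lib.HallNumA
import Cfsg.Agent.Lib.Hall

/-! Simple groups of order `175560` are `J₁`. -/

set_option autoImplicit false

namespace CfsgLib.J1

open Subgroup Cfsg SE

/-- a non-solvable group of order `60` is `A₅` -/
theorem alt5_of_card {K : Type*} [Group K] [Finite K] (h : Nat.card K = 60)
    (hs : ¬ Group.IsSolvable K) : Nonempty (K ≃* A5) := by
  classical
  have hn : ∀ N : Subgroup K, N.Normal → N = ⊥ ∨ N = ⊤ := fun N hN => by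
    by_contra h1
    push Not at h1
    have h2 := N.card_mul_index
    rw [h] at h2
    refine hs (isSolvable_of_normal_of_quotient N ?_ ?_) <;> by_contra h3
    · have := H4.card_eq_sixty (Dvd.intro _ h2) h3
      rw [this] at h2
      exact h1.2 (index_eq_one.1 (by omega))
    · have : N.index = 60 := H4.card_eq_sixty (Dvd.intro_left _ h2) h3
      rw [this] at h2
      exact h1.1 (card_eq_one.1 (by omega))
  have := Fact.mk Nat.prime_five
  obtain ⟨b, hb⟩ := exists_prime_orderOf_dvd_card' (G := K) 5 (by omega)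
  have hP : PS 5 b := ⟨Nat.prime_five, hb, by omega⟩
  have h1 : NN b ≠ ⊤ := fun e => by
    rcases hn _ (normalizer_eq_top_iff.1 e) with e | e <;> have := hP.card_zp <;> rw [e] at this
    · simp at this
    · rw [card_top] at this; omega
  have h6 : (NN b).index = 6 := by
    have h2 := hP.index_mod
    have h3 := (NN b).card_mul_index
    obtain ⟨k, hk⟩ := hP.dvd_CC.trans (card_dvd_of_le (CC_le b))
    have h4 : (NN b).index ∣ 12 := Dvd.intro_left k (by rw [hk] at h3; linarith)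
    have := Nat.le_of_dvd (by norm_num) h4
    have := mt index_eq_one.1 h1
    generalize (NN b).index = n at *
    interval_cases n <;> omega
  have := Fintype.ofFinite (K ⧸ NN b)
  let σ := MulAction.toPermHom K (K ⧸ NN b)
  have hσ : Function.Injective σ := by
    rw [← MonoidHom.ker_eq_bot_iff, ← normalCore_eq_ker]
    exact (hn _ inferInstance).resolve_right fun e => h1 (top_le_iff.1 (e ▸ normalCore_le _))
  have hle : σ.range ≤ alternatingGroup _ := by
    rintro _ ⟨g, rfl⟩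
    rcases hn (Equiv.Perm.sign.comp σ).ker inferInstance with e | e
    · have h2 := card_dvd_of_injective _ ((MonoidHom.ker_eq_bot_iff _).1 e)
      rw [h, Nat.card_eq_fintype_card, Fintype.card_units_int] at h2
      omega
    · exact e.ge (mem_top g)
  have h7 : Nat.card (K ⧸ NN b) = 6 := h6
  have h8 := H4.relIndex_alt_mul_card hle (by omega)
  rw [← Nat.card_congr (MonoidHom.ofInjective hσ).toEquiv, h, h7] at h8
  have h9 := H4.nonempty_equiv_alt_of_relIndex_eq (by omega) hle (by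
    rw [h7]; simp [Nat.factorial] at h8; omega)
  rw [h7] at h9
  exact ⟨(MonoidHom.ofInjective hσ).trans h9.some⟩

variable {G : Type*} [Group G] [Finite G] [IsSimpleGroup G] (hc : Nat.card G = 175560)
include hc

theorem uniq {r : ℕ} {y u v : G} (h : PS r y) (hu : IsInv u) (e : CC u = NN y) (hv : IsInv v)
    (hvy : v ∈ CC y) : v = u := by
  obtain ⟨g, rfl⟩ := isConj_iff.1 (isConj_inv hc hu hv)
  have h1 : y ∈ NN (g * y * g⁻¹) := by
    rw [mem_NN_conj, ← e, ← mem_CC_conj]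
    exact CC_comm hvy
  have h2 : g ∈ NN y := mem_NN_of_eq
    ((⟨h.prime, (orderOf_conj' g y).trans h.ord, h.sq⟩ : PS r _).zp_eq h.ord h1).symm
  rw [← e] at h2
  rw [mem_CC.1 h2, mul_inv_cancel_right]

theorem exists_five {t : G} (ht : IsInv t) (hs : Group.IsSolvable (CC t)) :
    ∃ b ∈ CC t, orderOf b = 5 ∧ CC t = NN b := by
  obtain ⟨U, hU⟩ := Hall.exists_subgroup_card_eq_of_coprime hs (m := 15) (n := 8) (by norm_num)
    (card_CC_inv hc ht)
  rw [← card_map_of_injective (CC t).subtype_injective] at hU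
  have hle := map_subtype_le U
  generalize U.map (CC t).subtype = W at hU hle
  obtain ⟨b, hb, hb'⟩ := exists_mem_orderOf (p := 5) (H := W) (by norm_num) (by omega)
  have h := ps hc hb'
  have h1 : W ≤ NN b := by
    have h2 := h.relIndex_mod hb
    have h3 := ClassCount.card_mul_relIndex_inf (NN b) W
    obtain ⟨k, hk⟩ : 5 ∣ Nat.card (NN b ⊓ W : Subgroup G) :=
      hb' ▸ (NN b ⊓ W).orderOf_dvd_natCard ⟨CC_le b (self_CC b), hb⟩
    have h4 : (NN b).relIndex W ∣ 3 := Dvd.intro_left k (by rw [hk, hU] at h3; linarith)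
    have := Nat.le_of_dvd (by norm_num) h4
    exact relIndex_eq_one.1 (by omega)
  refine ⟨b, hle hb, hb', NN_eq hc h (Or.inr rfl) ht ?_⟩
  have h2 := h.relIndex_mod (hle hb)
  have h3 := ClassCount.card_mul_relIndex_inf (NN b) (CC t)
  obtain ⟨k, hk⟩ : 15 ∣ Nat.card (NN b ⊓ CC t : Subgroup G) := hU ▸ card_dvd_of_le (le_inf h1 hle)
  have h4 : (NN b).relIndex (CC t) ∣ 8 :=
    Dvd.intro_left k (by rw [hk, card_CC_inv hc ht] at h3; linarith)
  have := Nat.le_of_dvd (by norm_num) h4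
  refine relIndex_eq_one.1 ?_
  generalize (NN b).relIndex (CC t) = n at *
  interval_cases n <;> omega

theorem exists_three {t b : G} (ht : IsInv t) (hb : b ∈ CC t) (hb' : orderOf b = 5)
    (e : CC t = NN b) : ∃ a ∈ CC t, a ∈ CC b ∧ orderOf a = 3 ∧ CC t = NN a := by
  obtain ⟨f, -, -, d2, d3, d4, -⟩ := (ps hc hb').data hc
  rw [← e, card_CC_inv hc ht] at d2
  have := Nat.le_of_dvd (by norm_num) d3
  have h0 : Nat.card (CC b) = 60 ∨ Nat.card (CC b) = 30 := by interval_cases f <;> omega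
  obtain ⟨a, ha, ha'⟩ := exists_mem_orderOf (p := 3) (H := CC b) (by norm_num) (by omega)
  have hat : a ∈ CC t := e ▸ CC_le b ha
  have h := ps hc ha'
  have h1 : CC b ≤ NN a := by
    have h2 := h.relIndex_mod ha
    have h3 := ClassCount.card_mul_relIndex_inf (NN a) (CC b)
    have k1 := (NN a ⊓ CC b).orderOf_dvd_natCard ⟨CC_le a (self_CC a), ha⟩
    have k2 := (NN a ⊓ CC b).orderOf_dvd_natCard ⟨CC_le a (CC_comm ha), self_CC b⟩
    have k3 := (NN a ⊓ CC b).orderOf_dvd_natCard ⟨CC_le a (CC_comm hat), CC_comm hb⟩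
    rw [ha'] at k1
    rw [hb'] at k2
    rw [ht.orderOf] at k3
    obtain ⟨k, hk⟩ : 30 ∣ Nat.card (NN a ⊓ CC b : Subgroup G) := by omega
    have h4 : 0 < k := by
      have : 0 < Nat.card (NN a ⊓ CC b : Subgroup G) := Nat.card_pos
      omega
    have : (NN a).relIndex (CC b) ≤ 2 := by
      have : Nat.card (CC b) ≤ 60 := by omega
      rw [hk] at h3
      nlinarith
    exact relIndex_eq_one.1 (by omega)
  exact ⟨a, hat, ha, ha', NN_eq hc h (Or.inl rfl) ht fun g hg => mem_NN_of_eq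
    (h.zp_eq ((orderOf_conj' g a).trans ha') (h1 (conj_mem_CC (e ▸ hg) ha)))⟩

theorem relIndex_two {u a : G} (ha : orderOf a = 3) (e : CC u = NN a) {S : Subgroup G}
    (hS : S ≤ CC u) : (CC a).relIndex S ≤ 2 := by
  obtain ⟨f, d0, -, -, d3, -⟩ := (ps hc ha).data hc
  exact (relIndex_le_of_le_right (e ▸ hS) (by rw [← d0]; rintro rfl; omega)).trans
    (d0 ▸ Nat.le_of_dvd (by norm_num) d3)

theorem exists_sqrt {u a : G} (hu : IsInv u) (ha : orderOf a = 3) (e : CC u = NN a)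
    {S : Subgroup G} (hS : S ≤ CC u) (h8 : Nat.card S = 8) : ∃ x ∈ S, x ∈ CC a ∧ x * x = u := by
  have h1 := relIndex_two hc ha e hS
  have h2 := ClassCount.card_mul_relIndex_inf (CC a) S
  obtain ⟨g, ⟨hg, hg'⟩, h3⟩ := SetLike.not_le_iff_exists.1 fun h : CC a ⊓ S ≤ zpowers u => by
    have := card_le_of_le h
    rw [hu.card_zpowers] at this
    nlinarith
  have k := fun v => uniq hc (v := v) (ps hc ha) hu e
  have h4 : g * g ≠ 1 := fun h4 =>
    h3 (k g ⟨h4, fun h5 => h3 (h5 ▸ one_mem _)⟩ hg ▸ mem_zpowers _)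
  by_cases h5 : g * g * (g * g) = 1
  · exact ⟨g, hg', hg, k _ ⟨h5, h4⟩ (mul_mem hg hg)⟩
  · refine ⟨g * g, mul_mem hg' hg', mul_mem hg hg, k _ ⟨?_, h5⟩
      (mul_mem (mul_mem hg hg) (mul_mem hg hg))⟩
    rw [← Suz.pow_card_of_mem hg', h8]
    simp only [pow_succ, pow_zero, one_mul, mul_assoc]

theorem not_solvable {t : G} (ht : IsInv t) : ¬ Group.IsSolvable (CC t) := fun hs => by
  have hall : ∀ u, IsInv u → ∃ a, orderOf a = 3 ∧ CC u = NN a := fun u hu => by
    obtain ⟨g, rfl⟩ := isConj_iff.1 (isConj_inv hc ht hu)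
    obtain ⟨b, b1, b2, b3⟩ := exists_five hc ht hs
    obtain ⟨a, -, -, a1, a2⟩ := exists_three hc ht b1 b2 b3
    exact ⟨g * a * g⁻¹, (orderOf_conj' g a).trans a1, Subgroup.ext fun y => by
      rw [mem_CC_conj, mem_NN_conj, a2]⟩
  obtain ⟨b, b1, b2, b3⟩ := exists_five hc ht hs
  obtain ⟨a, a0, ab, a1, a2⟩ := exists_three hc ht b1 b2 b3
  have ia : ∀ v, IsInv v → v ≠ t → v ∈ CC t → v ∉ CC a ∧ v * a * v⁻¹ = a⁻¹ := fun v h1 h2 h3 =>
    have h4 : v ∉ CC a := fun h => h2 (uniq hc (ps hc a1) ht a2 h1 h)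
    ⟨h4, (ps hc a1).inverts h1.1 (a2 ▸ h3) h4⟩
  have ib : ∀ v, IsInv v → v ≠ t → v ∈ CC t → v ∉ CC b ∧ v * b * v⁻¹ = b⁻¹ := fun v h1 h2 h3 =>
    have h4 : v ∉ CC b := fun h => h2 (uniq hc (ps hc b2) ht b3 h1 h)
    ⟨h4, (ps hc b2).inverts h1.1 (b3 ▸ h3) h4⟩
  obtain ⟨s, hs1, hs2, hs3⟩ := exists_comm_inv hc ht
  obtain ⟨S, h1, h2, h3⟩ := exists_eight hc (n := 1) (zpowers_le.2 hs3) hs1.card_zpowers
    (eight_dvd hc ht)
  have hsS := h1 (mem_zpowers s)
  obtain ⟨x, x1, x2, x3⟩ := exists_sqrt hc ht a1 a2 h2 h3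
  have x4 : orderOf x = 4 := orderOf_eq_prime_pow (p := 2) (n := 1)
    (by rw [pow_one, pow_two, x3]; exact ht.2) (by
      rw [← ht.1, ← x3, ← pow_two, ← pow_two, ← pow_mul]; rfl)
  have hi : (CC a).relIndex S = 2 := by
    have k1 := relIndex_two hc a1 a2 h2
    have k2 : (CC a).relIndex S ≠ 1 := fun e => (ia s hs1 hs2 hs3).1 (relIndex_eq_one.1 e hsS)
    have k3 : (CC a).relIndex S ≠ 0 := FiniteIndex.index_ne_zero
    omega
  have hT : zpowers x = CC a ⊓ S := eq_of_le_of_card_ge (zpowers_le.2 ⟨x2, x1⟩) (by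
    have := ClassCount.card_mul_relIndex_inf (CC a) S
    rw [hi] at this
    rw [Nat.card_zpowers, x4]
    omega)
  have hsx : s * x * s⁻¹ = x⁻¹ := by
    classical
    have k1 : s * x * s⁻¹ ∈ zpowers x := hT ▸ mem_inf.2 ⟨conj_mem_CC (a2 ▸ hs3) x2,
      mul_mem (mul_mem hsS x1) (inv_mem hsS)⟩
    have k2 := (orderOf_conj' s x).trans x4
    rw [mem_zpowers_iff_mem_range_orderOf, x4] at k1
    obtain ⟨k, hk, e⟩ := Finset.mem_image.1 k1
    rw [Finset.mem_range] at hk
    rw [← e] at k2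
    interval_cases k
    · simp at k2
    · exfalso
      rw [pow_one, eq_mul_inv_iff_mul_eq] at e
      obtain ⟨a', c1, c2⟩ := hall s hs1
      have k3 : zpowers x ≤ CC s := zpowers_le.2 (mem_CC.2 e)
      obtain ⟨y, y1, -, y2⟩ := exists_sqrt hc hs1 c1 c2 (S := S) (fun g hg => by
        by_cases h : g ∈ CC a
        · exact k3 (hT ▸ ⟨h, hg⟩)
        · have : g * s ∈ CC a := (mul_mem_iff_of_index_two hi (a := ⟨g, hg⟩) (b := ⟨s, hsS⟩)).2
            (iff_of_false h (ia s hs1 hs2 hs3).1)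
          exact (mul_mem_cancel_right (self_CC s)).1 (k3 (hT ▸ ⟨this, mul_mem hg hsS⟩))) h3
      exact (ia s hs1 hs2 hs3).1 (y2 ▸ mul_self_mem_of_index_two hi ⟨y, y1⟩)
    · rw [pow_two, x3, ht.orderOf] at k2
      omega
    · rw [← e, eq_inv_iff_mul_eq_one, ← pow_succ]
      exact orderOf_dvd_iff_pow_eq_one.1 x4.dvd
  have hxt : x ∈ CC t := h2 x1
  have hxb : x * b = b * x := by
    have k1 : s * x ∉ CC a := fun h => (ia s hs1 hs2 hs3).1 ((mul_mem_cancel_right x2).1 h)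
    have k2 := (ib (s * x) ⟨Invol.mul_mul_self hs1.1 hsx, fun e => k1 (e ▸ one_mem _)⟩
      (fun e => k1 (e ▸ CC_comm a0)) (mul_mem hs3 hxt)).2
    rw [← (ib s hs1 hs2 hs3).2] at k2
    calc x * b = s⁻¹ * (s * x * b * (s * x)⁻¹) * s * x := by group
      _ = _ := by rw [k2]; group
  have c1 : Commute a b := mem_CC.1 ab
  have c2 : Commute (a * b) x := (show Commute x a from mem_CC.1 x2).symm.mul_left
    (show Commute x b from hxb).symm
  have o1 : orderOf (a * b) = 15 := by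
    rw [c1.orderOf_mul_eq_mul_orderOf_of_coprime (by rw [a1, b2]; norm_num), a1, b2]
  have o2 : orderOf (a * b * x) = 60 := by
    rw [c2.orderOf_mul_eq_mul_orderOf_of_coprime (by rw [o1, x4]; norm_num), o1, x4]
  have i1 : s * (a * b * x) * s⁻¹ = (a * b * x)⁻¹ := by
    rw [← conj_mul, ← conj_mul, (ia s hs1 hs2 hs3).2, (ib s hs1 hs2 hs3).2, hsx, ← mul_inv_rev,
      ← mul_inv_rev, ← c1.eq, c2.eq]
  obtain ⟨f, -, d1, d2, d3, d4, -⟩ := (ps hc b2).data hc
  rw [← b3, card_CC_inv hc ht] at d1 d2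
  have hle : zpowers (a * b * x) ≤ CC b :=
    zpowers_le.2 (mul_mem (mul_mem ab (self_CC b)) (mem_CC.2 hxb))
  have h60 := card_le_of_le hle
  rw [Nat.card_zpowers, o2] at h60
  have := Nat.le_of_dvd (by norm_num) d3
  have h61 : Nat.card (CC b) = 60 := by interval_cases f <;> omega
  have heq := eq_of_le_of_card_ge hle (by rw [Nat.card_zpowers, o2, h61])
  have p1 := (ps hc b2).card_W
  have p2 := pairs (r := 60) (X := {g | ∃ n, ∃ w ∈ {w | w ∈ CC b ∧ 5 ∣ orderOf w},
      n * w * n⁻¹ = g}) (by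
    rintro _ ⟨n, w, hw, rfl⟩
    rw [nInv_conj, conj_mul, Ne, conj_eq_one_iff, ← o2]
    refine ⟨fun e => ?_, le_nInv hs1 i1 (heq ▸ (ib s hs1 hs2 hs3).1) (heq ▸ hw.1)⟩
    have := hw.2.trans (orderOf_dvd_of_pow_eq_one ((pow_two w).trans e))
    omega)
  rw [(ps hc b2).ncard_conj_W, ncard_inv hc ht, ← b3, show (CC t).index = 1463 by omega] at p2
  omega

theorem exists_ci {t : G} (ht : IsInv t) : ∃ φ, CI t φ := by
  let t' : CC t := ⟨t, self_CC t⟩
  have it : IsInv t' := ⟨Subtype.ext ht.1, fun e => ht.2 (congrArg Subtype.val e)⟩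
  have hcen : ∀ g : CC t, g * t' = t' * g := fun g => Subtype.ext (mem_CC.1 g.2)
  have hm : ∀ g : CC t, g ∈ zpowers t' ↔ g = 1 ∨ g = t' := fun g => GW.mem_zpowers_inv it.orderOf
  have hN : (zpowers t').Normal := ⟨fun n hn g => by
    rcases (hm n).1 hn with rfl | rfl
    · simp
    · rw [hcen, mul_inv_cancel_right]; exact hn⟩
  obtain ⟨e⟩ := alt5_of_card (K := CC t ⧸ zpowers t') (by
    have := (zpowers t').card_mul_index
    rw [it.card_zpowers, card_CC_inv hc ht] at this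
    change (zpowers t').index = 60
    omega) fun h => not_solvable hc ht (isSolvable_of_normal_of_quotient (zpowers t')
      (isSolvable_of_isPGroup (Invol.isPGroup_zpowers it.1)) h)
  let π : CC t →* A5 := e.toMonoidHom.comp (QuotientGroup.mk' _)
  have hπ : Function.Surjective π := e.surjective.comp (QuotientGroup.mk'_surjective _)
  have hk : ∀ g, π g = 1 ↔ g = 1 ∨ g = t' := fun g => by
    rw [← hm, ← QuotientGroup.eq_one_iff]
    exact e.map_eq_one_iff
  obtain ⟨s, hs1, hs2, hs3⟩ := exists_comm_inv hc ht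
  have hss : (⟨s, hs3⟩ : CC t) * ⟨s, hs3⟩ = 1 := Subtype.ext hs1.1
  obtain ⟨g₁, e₁⟩ := inv_conj_p (π ⟨s, hs3⟩) (by rw [← map_mul, hss, map_one]) fun h => by
    rcases (hk _).1 h with h | h
    · exact hs1.2 (congrArg Subtype.val h)
    · exact hs2 (congrArg Subtype.val h)
  have hsq : ∀ y : CC t, π y * π y = 1 → π y ≠ 1 → IsInv y := fun y h1 h2 => by
    refine ⟨?_, fun e => h2 (by rw [e, map_one])⟩
    obtain ⟨g₂, e₂⟩ := inv_conj_p _ h1 h2
    obtain ⟨k, hk'⟩ := hπ (g₂⁻¹ * g₁)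
    have h3 := Invol.conj_mul_self hss k
    have : π ((k * ⟨s, hs3⟩ * k⁻¹)⁻¹ * y) = 1 := by
      rw [map_mul, map_inv, map_mul, map_mul, map_inv, hk', inv_mul_eq_one]
      calc _ = g₂⁻¹ * (g₁ * π ⟨s, hs3⟩ * g₁⁻¹) * g₂ := by group
        _ = _ := by rw [e₁, ← e₂]; group
    rcases (hk _).1 this with h | h
    · rwa [← inv_mul_eq_one.1 h]
    · rw [inv_mul_eq_iff_eq_mul.1 h, mul_assoc, ← mul_assoc t', ← hcen, mul_assoc _ t', it.1,
        mul_one, h3]
  obtain ⟨u, hu⟩ := hπ pA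
  obtain ⟨v, hv⟩ := hπ rA
  have iu := hsq u (by rw [hu]; decide) (by rw [hu]; decide)
  have iv := hsq v (by rw [hv]; decide) (by rw [hv]; decide)
  have iuv := hsq (u * v) (by rw [map_mul, hu, hv]; decide) (by rw [map_mul, hu, hv]; decide)
  have f := four_of iu iv (by rw [← iuv.inv_eq, mul_inv_rev, iu.inv_eq, iv.inv_eq])
    fun e => absurd (hu.symm.trans (e ▸ hv)) (by decide)
  obtain ⟨K, K1, K2⟩ := (thompson_lemma (M := GW.V u v) (by
    have := (GW.V u v).card_mul_index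
    rw [f.card_V, card_CC_inv hc ht] at this
    omega) it.1).resolve_right fun ⟨g, hg⟩ => by
      rw [mul_assoc, ← hcen, inv_mul_cancel_left, f.mem_V] at hg
      have h1 := (hk t').2 (Or.inr rfl)
      rcases hg with h | h | h | h
      · exact it.2 h
      · rw [h, hu] at h1; exact absurd h1 (by decide)
      · rw [h, hv] at h1; exact absurd h1 (by decide)
      · rw [h, map_mul, hu, hv] at h1; exact absurd h1 (by decide)
  have hb : Function.Bijective (π.comp K.subtype) := by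
    refine (Nat.bijective_iff_injective_and_card _).2 ⟨(injective_iff_map_eq_one _).2
      fun g hg => Subtype.ext (((hk _).1 hg).resolve_right fun e => K2 (e ▸ g.2)), ?_⟩
    have := K.card_mul_index
    rw [K1, card_CC_inv hc ht] at this
    rw [Nat.card_eq_fintype_card (α := A5), (by decide +kernel : Fintype.card A5 = 60)]
    omega
  let ψ := (MulEquiv.ofBijective _ hb).symm
  have hψ : ∀ y, π (ψ y) = y := (MulEquiv.ofBijective _ hb).apply_symm_apply
  refine ⟨(CC t).subtype.comp (K.subtype.comp ψ.toMonoidHom), (CC t).subtype_injective.comp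
    (K.subtype_injective.comp ψ.injective), ht.1, fun y => mem_CC.1 (ψ y : CC t).2,
    fun y e => K2 ((show (ψ y : CC t) = t' from Subtype.ext e) ▸ (ψ y).2), fun g hg => ?_⟩
  let g' : CC t := ⟨g, mem_CC.2 hg⟩
  refine ⟨π g', ((hk (g' * (ψ (π g') : CC t)⁻¹)).1 (by
    rw [map_mul, map_inv, hψ, mul_inv_cancel])).imp (fun h => ?_) fun h => ?_⟩
  · exact congrArg Subtype.val (mul_inv_eq_one.1 h)
  · exact congrArg Subtype.val (mul_inv_eq_iff_eq_mul.1 h)

theorem jh : JH G := ⟨hc, fun _ h1 h2 => exists_ci hc ⟨h1, h2⟩, fun x k hx => by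
  by_cases h : Odd (orderOf x)
  · rw [orderOf_eq_one_iff.1 ((Nat.coprime_two_right.2 h).pow_right k |>.eq_one_of_dvd
      (orderOf_dvd_of_pow_eq_one hx)), one_mul]
  · obtain ⟨z, ⟨j, rfl⟩, h1, h2⟩ := Invol.exists_involution_mem_zpowers (Nat.not_odd_iff_even.1 h)
    obtain ⟨φ, hφ⟩ := exists_ci hc ⟨h2, h1⟩
    exact hφ.sq_of_two (Commute.self_zpow x j).eq hx⟩

/-- **A simple group of order `175560` is `J₁`.** -/
theorem isoJ1_of_card : Spor.IsoJ1 G := (jh hc).isoJ1

end CfsgLib.J1
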